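import Cfsg.Agent.Lib.Schur.Co1Local.FiveChecks

/-!
At 5 a central extension of `Co₁` meets no commutators of a Sylow subgroup.
-/

set_option autoImplicit false
set_option maxRecDepth 20000

namespace Cfsg.Agent.Schur.Co1Local

open Cfsg Cfsg.Agent.Leech Subgroup
open scoped commutatorElement

theorem five_inv :
    ((1 : Matrix (Fin 3) (Fin 3) (ZMod 5)) * ((scalarCert 5 3 2 3).M - 1) = 1) ∧
      ((scalarCert 5 3 2 3).M - 1) * (1 : Matrix (Fin 3) (Fin 3) (ZMod 5)) = 1 := by
  decide +kernel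

theorem five_nontriv : tblMat 5 3 fiveAct ≠ 1 := by decide +kernel

theorem local_five {Γ : Type*} [Group Γ] [Finite Γ] (σ : Γ →* Spor.Co1)
    (hσ : Function.Surjective σ) (hz : σ.ker ≤ center Γ) :
    ∃ H : Subgroup Γ, ¬ 5 ∣ H.index ∧ ⁅H, H⁆ ⊓ σ.ker = ⊥ := by
  haveI := finite_co1
  haveI : Fact (Nat.Prime 5) := ⟨by norm_num⟩
  haveI : Fact (1 < 5) := ⟨by norm_num⟩
  obtain ⟨g, hg⟩ := exists_realises five_matOK
  obtain ⟨N, hN⟩ := exists_param hg five_basis
  have hu := acts_of_actOK hg N hN five_act_u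
  have hc := acts_of_actOK hg N hN five_act_c
  have hcomm := fun X Y hX hY => N.commute_lifts hσ hz [scalarCert 5 3 2 3]
    (fun C hC => by
      rw [List.mem_singleton] at hC
      subst hC
      exact ⟨scalarCert_ok (by norm_num) _, _, hu⟩)
    (scalarCert_one (by decide)) (X := X) (Y := Y) hX hY
  obtain ⟨U, hU⟩ := hσ (toCo1 (g 3))
  obtain ⟨c, hcσ⟩ := hσ (toCo1 (g 4))
  let F : N.Fpf σ := ⟨hσ, hz, hcomm, U, (scalarCert 5 3 2 3).M, hU ▸ hu, 1, five_inv.1, five_inv.2⟩
  have hcn : c ∈ normalizer (F.B : Set Γ) := by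
    refine F.mem_normalizer_of (by rw [hcσ]; exact hc.mem_normalizer) 1
      (n := coordProd (fun i => toCo1 (g i)) fun j : Fin 3 => (fiveShift.getD j.val 0 : ZMod 5))
      ⟨_, congrFun hN _⟩ ?_
    have h := toCo1_word hg five_rel
    rw [List.map_append, List.map_append, List.prod_append, List.prod_append, prod_wordV] at h
    simp only [List.map_cons, List.map_nil, List.prod_cons, List.prod_nil, mul_one] at h
    rw [hcσ, show σ F.U = toCo1 (g 3) from hU, pow_one, h, coordProd]
    congr 3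
  set X := N.grp ⊔ zpowers (σ c) with hX
  refine ⟨X.comap σ, not_dvd_index_comap σ hσ (k := 4) (by norm_num) _ ?_ (by norm_num),
    F.commutator_le_of_cyclic _ hcn (map_comap_le σ X)⟩
  have h5 : σ c ^ 5 = 1 := by
    rw [hcσ]
    have h := toCo1_word hg five_pow
    rwa [List.map_replicate, List.prod_replicate, List.map_nil, List.prod_nil] at h
  have hpg : IsPGroup 5 X := by
    rw [hX, sup_comm]
    refine IsPGroup.to_sup_of_normal_right' ?_ (IsPGroup.of_card N.card_grp) ?_
    · refine IsPGroup.of_card (n := (orderOf (σ c)).factorization 5) ?_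
      rw [Nat.card_zpowers]
      rcases (Nat.dvd_prime (by norm_num : Nat.Prime 5)).1 (orderOf_dvd_of_pow_eq_one h5) with e | e <;>
        rw [e] <;> norm_num
    · rw [zpowers_le, hcσ]
      exact hc.mem_normalizer
  refine dvd_card_sup_of_not_mem N.card_grp le_sup_left hpg fun e => five_nontriv ?_
  have hcN : σ c ∈ N.grp := e ▸ le_sup_right (a := N.grp) (mem_zpowers (σ c))
  obtain ⟨x, hx⟩ := hcN
  ext a b
  have h1 := hc (Pi.single b 1)
  rw [← hcσ, ← hx, N.pi_comm] at h1
  have h2 := N.injective (mul_right_cancel h1)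
  rw [Matrix.mulVec_single_one] at h2
  rw [show (tblMat 5 3 fiveAct) a b = (Matrix.col (tblMat 5 3 fiveAct) b) a from rfl, ← h2,
    Matrix.one_apply, Pi.single_apply]

end Cfsg.Agent.Schur.Co1Local
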