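import Mathlib.Data.Nat.Notation
import Mathlib.Data.Int.Notation

/-!
A subgroup 5³, an element squaring it and an element of order 5 normalising it, as matrices.
-/

set_option autoImplicit false

namespace Cfsg.Agent.Schur.Co1Local

/-- The matrices. -/
noncomputable def fiveRows : List (List (List ℤ)) :=
  [[[0,0,0,0,0,0,0,0,0,0,0,0,0,0,0,0,0,8,0,0,0,0,0,0],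
    [0,0,0,0,0,0,0,0,0,0,0,0,8,0,0,0,0,0,0,0,0,0,0,0],
    [0,0,8,0,0,0,0,0,0,0,0,0,0,0,0,0,0,0,0,0,0,0,0,0],
    [0,0,0,0,0,0,0,0,0,0,0,0,0,0,0,0,0,0,8,0,0,0,0,0],
    [0,0,0,0,0,0,0,0,0,0,0,8,0,0,0,0,0,0,0,0,0,0,0,0],
    [0,0,0,0,0,0,0,0,0,0,0,0,0,8,0,0,0,0,0,0,0,0,0,0],
    [0,0,0,0,0,0,0,8,0,0,0,0,0,0,0,0,0,0,0,0,0,0,0,0],
    [0,0,0,0,0,0,0,0,0,0,0,0,0,0,0,0,0,0,0,0,0,8,0,0],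
    [0,0,0,0,0,0,8,0,0,0,0,0,0,0,0,0,0,0,0,0,0,0,0,0],
    [0,0,0,0,0,0,0,0,8,0,0,0,0,0,0,0,0,0,0,0,0,0,0,0],
    [0,0,0,0,0,0,0,0,0,0,0,0,0,0,0,0,8,0,0,0,0,0,0,0],
    [0,0,0,0,0,0,0,0,0,0,8,0,0,0,0,0,0,0,0,0,0,0,0,0],
    [0,0,0,0,0,0,0,0,0,0,0,0,0,0,0,0,0,0,0,0,8,0,0,0],
    [0,0,0,8,0,0,0,0,0,0,0,0,0,0,0,0,0,0,0,0,0,0,0,0],
    [0,0,0,0,0,0,0,0,0,0,0,0,0,0,8,0,0,0,0,0,0,0,0,0],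
    [0,0,0,0,0,8,0,0,0,0,0,0,0,0,0,0,0,0,0,0,0,0,0,0],
    [0,0,0,0,0,0,0,0,0,0,0,0,0,0,0,0,0,0,0,0,0,0,0,8],
    [0,8,0,0,0,0,0,0,0,0,0,0,0,0,0,0,0,0,0,0,0,0,0,0],
    [0,0,0,0,0,0,0,0,0,0,0,0,0,0,0,8,0,0,0,0,0,0,0,0],
    [0,0,0,0,0,0,0,0,0,0,0,0,0,0,0,0,0,0,0,8,0,0,0,0],
    [8,0,0,0,0,0,0,0,0,0,0,0,0,0,0,0,0,0,0,0,0,0,0,0],
    [0,0,0,0,0,0,0,0,0,8,0,0,0,0,0,0,0,0,0,0,0,0,0,0],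
    [0,0,0,0,0,0,0,0,0,0,0,0,0,0,0,0,0,0,0,0,0,0,8,0],
    [0,0,0,0,8,0,0,0,0,0,0,0,0,0,0,0,0,0,0,0,0,0,0,0]],
   [[1,(-3),1,1,(-1),(-3),1,(-3),(-3),1,(-1),(-1),(-3),1,(-1),1,(-1),1,1,(-1),1,1,(-1),(-1)],
    [(-3),1,1,(-3),(-1),1,1,(-3),1,(-3),(-1),(-1),1,1,(-1),1,(-1),1,1,(-1),(-3),1,(-1),(-1)],
    [(-1),(-1),(-1),3,1,3,(-1),(-1),(-1),(-1),1,1,(-1),3,1,3,1,(-1),3,1,(-1),(-1),1,1],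
    [(-1),(-1),(-1),3,1,(-1),(-1),(-1),(-1),(-1),(-3),1,3,(-1),1,(-1),(-3),3,(-1),1,(-1),(-1),1,1],
    [1,(-3),1,(-3),3,1,1,1,1,1,(-1),(-1),1,1,(-1),1,(-1),1,1,(-1),1,(-3),3,(-1)],
    [(-1),(-1),(-1),(-1),(-3),3,(-1),(-1),(-1),(-1),1,(-3),(-1),(-1),1,(-1),1,3,(-1),1,3,(-1),1,1],
    [1,1,1,1,(-1),(-3),1,1,1,(-3),3,(-1),1,1,(-1),1,(-1),1,1,(-1),1,(-3),(-1),3],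
    [1,1,1,1,3,1,1,1,(-3),(-3),(-1),(-1),1,(-3),(-1),1,3,1,1,(-1),1,1,(-1),(-1)],
    [1,1,1,1,(-1),1,1,(-3),1,1,(-1),3,1,1,(-1),(-3),3,1,1,(-1),1,(-3),(-1),(-1)],
    [1,1,1,1,3,1,(-3),(-3),1,1,3,(-1),1,1,(-1),1,(-1),1,(-3),(-1),1,1,(-1),(-1)],
    [1,1,1,1,(-1),1,1,1,(-3),1,3,(-1),1,1,(-1),(-3),(-1),1,1,(-1),(-3),1,3,(-1)],
    [1,1,1,1,(-1),1,1,1,1,(-3),(-1),3,(-3),1,(-1),1,(-1),1,(-3),(-1),1,1,3,(-1)],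
    [(-3),1,1,1,(-1),1,1,1,(-3),1,(-1),(-1),1,1,(-1),1,(-1),(-3),(-3),(-1),1,(-3),(-1),(-1)],
    [3,3,(-1),(-1),1,(-1),(-1),(-1),(-1),(-1),(-3),(-3),(-1),3,1,(-1),1,(-1),(-1),1,(-1),(-1),1,1],
    [(-1),(-1),(-5),(-1),1,(-1),(-1),(-1),(-1),(-1),1,1,(-1),(-1),(-3),(-1),1,(-1),(-1),(-3),(-1),(-1),1,1],
    [3,(-1),(-1),(-1),(-3),(-1),(-1),(-1),(-1),(-1),1,1,3,(-1),1,3,1,(-1),(-1),1,(-1),(-1),1,(-3)],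
    [(-3),1,1,1,(-1),(-3),(-3),1,1,1,(-1),(-1),1,1,(-1),1,3,1,1,(-1),1,1,3,(-1)],
    [1,1,1,1,(-1),1,(-3),1,1,1,(-1),(-1),(-3),(-3),(-1),1,(-1),1,1,(-1),(-3),(-3),(-1),(-1)],
    [(-1),3,(-1),(-1),1,(-1),(-1),(-1),(-1),(-1),1,1,(-1),(-1),1,(-1),(-3),(-1),3,1,3,(-1),1,(-3)],
    [(-1),(-1),3,(-1),1,(-1),(-1),(-1),(-1),(-1),1,1,(-1),(-1),5,(-1),1,(-1),(-1),(-3),(-1),(-1),1,1],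
    [1,(-3),1,1,(-1),1,(-3),1,1,(-3),(-1),(-1),1,1,(-1),(-3),(-1),(-3),1,(-1),1,1,(-1),(-1)],
    [1,1,1,(-3),(-1),1,(-3),1,(-3),1,(-1),3,1,1,(-1),1,(-1),1,1,(-1),1,1,(-1),3],
    [1,1,(-3),1,(-1),1,1,1,1,1,(-1),(-1),1,1,3,1,(-1),1,1,(-5),1,1,(-1),(-1)],
    [1,1,1,1,(-1),1,1,(-3),1,1,(-1),(-1),1,(-3),(-1),1,(-1),(-3),1,(-1),1,1,3,3]],
   [[(-2),(-2),0,0,0,0,(-2),(-2),(-2),2,0,0,(-2),0,2,0,4,2,0,(-2),2,2,0,0],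
    [(-2),(-2),0,0,4,0,2,(-2),2,(-2),0,0,2,0,2,0,0,2,0,(-2),(-2),(-2),0,0],
    [0,0,(-2),(-2),2,(-2),0,0,0,0,2,2,0,(-2),(-4),(-2),2,0,(-2),0,0,0,(-2),2],
    [0,0,2,(-2),2,(-2),0,0,0,0,(-2),2,0,2,0,(-2),(-2),0,2,0,0,4,2,2],
    [0,(-4),2,(-2),(-2),2,0,0,0,0,(-2),2,0,(-2),0,2,(-2),0,(-2),0,0,0,(-2),2],
    [0,0,2,(-2),(-2),(-2),4,0,0,0,2,(-2),0,2,0,2,2,0,(-2),0,0,0,2,2],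
    [2,(-2),0,0,0,(-4),(-2),2,2,(-2),0,0,(-2),0,2,0,0,2,0,2,2,(-2),0,0],
    [2,2,0,0,0,0,2,(-2),(-2),(-2),0,0,(-2),(-4),2,0,0,2,0,2,(-2),2,0,0],
    [2,(-2),0,0,0,0,2,(-2),(-2),2,0,0,2,0,2,(-4),0,(-2),0,2,2,(-2),0,0],
    [(-2),2,0,0,0,0,(-2),(-2),2,(-2),0,0,2,0,2,0,0,(-2),(-4),2,2,2,0,0],
    [0,0,2,2,(-2),(-2),0,0,0,0,(-2),2,0,2,0,(-2),2,0,(-2),0,(-4),0,(-2),(-2)],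
    [0,0,2,(-2),2,2,0,0,0,0,2,(-2),(-4),2,0,(-2),(-2),0,(-2),0,0,0,(-2),(-2)],
    [(-2),2,0,0,0,0,2,2,(-2),(-2),0,4,(-2),0,2,0,0,(-2),0,(-2),2,(-2),0,0],
    [0,0,2,2,2,2,0,4,0,0,(-2),(-2),0,(-2),0,(-2),2,0,(-2),0,0,0,2,2],
    [2,2,4,0,0,0,(-2),(-2),(-2),(-2),0,0,2,0,(-2),0,0,2,0,(-2),2,(-2),0,0],
    [0,0,2,(-2),(-2),2,0,0,4,0,2,2,0,(-2),0,(-2),2,0,2,0,0,0,2,(-2)],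
    [(-4),0,2,2,(-2),(-2),0,0,0,0,2,(-2),0,(-2),0,(-2),(-2),0,2,0,0,0,(-2),2],
    [2,2,0,0,0,0,(-2),(-2),2,2,0,0,(-2),0,2,0,0,(-2),0,(-2),(-2),(-2),0,4],
    [0,0,2,2,2,(-2),0,0,0,4,2,2,0,(-2),0,2,(-2),0,(-2),0,0,0,2,(-2)],
    [2,2,0,0,0,0,2,2,2,2,0,0,2,0,2,0,0,2,0,(-2),2,2,(-4),0],
    [2,(-2),0,0,0,0,(-2),2,(-2),(-2),4,0,2,0,2,0,0,(-2),0,(-2),(-2),2,0,0],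
    [(-2),2,0,(-4),0,0,(-2),2,(-2),2,0,0,2,0,2,0,0,2,0,2,(-2),(-2),0,0],
    [0,0,2,2,2,2,0,0,0,0,2,2,0,2,0,2,2,0,2,4,0,0,(-2),2],
    [0,0,2,(-2),2,(-2),0,0,0,0,(-2),(-2),0,(-2),0,2,2,(-4),2,0,0,0,(-2),(-2)]],
   [[2,(-2),(-2),(-2),0,(-2),2,2,2,(-2),0,0,(-2),2,0,2,0,(-2),(-2),0,(-2),(-2),0,0],
    [(-2),(-2),(-2),2,0,2,2,2,(-2),(-2),0,0,(-2),(-2),0,(-2),0,2,(-2),0,(-2),2,0,0],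
    [0,0,0,0,(-2),0,0,0,0,0,(-2),(-2),0,0,2,0,(-2),0,0,2,0,0,6,(-2)],
    [2,2,2,2,0,2,2,(-2),2,2,0,0,(-2),2,0,(-2),0,(-2),(-2),0,(-2),2,0,0],
    [(-2),(-2),2,(-2),0,(-2),2,(-2),(-2),(-2),0,0,2,2,0,(-2),0,(-2),(-2),0,2,2,0,0],
    [(-2),(-2),2,(-2),0,2,(-2),2,2,2,0,0,(-2),2,0,2,0,2,(-2),0,2,2,0,0],
    [0,0,0,0,2,0,0,0,0,0,2,2,0,0,(-2),0,(-6),0,0,(-2),0,0,2,2],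
    [0,0,0,0,2,0,0,0,0,0,2,(-6),0,0,(-2),0,2,0,0,(-2),0,0,2,2],
    [0,0,0,0,(-6),0,0,0,0,0,2,2,0,0,(-2),0,2,0,0,(-2),0,0,2,2],
    [0,0,0,0,2,0,0,0,0,0,(-6),2,0,0,(-2),0,2,0,0,(-2),0,0,2,2],
    [2,(-2),2,2,0,(-2),(-2),2,(-2),2,0,0,(-2),(-2),0,(-2),0,(-2),(-2),0,2,(-2),0,0],
    [(-2),2,2,(-2),0,(-2),2,(-2),(-2),2,0,0,(-2),(-2),0,2,0,2,(-2),0,(-2),(-2),0,0],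
    [(-2),(-2),(-2),(-2),0,2,2,(-2),2,2,0,0,(-2),(-2),0,(-2),0,(-2),2,0,2,(-2),0,0],
    [(-2),2,2,2,0,(-2),2,2,2,(-2),0,0,(-2),(-2),0,2,0,(-2),2,0,2,2,0,0],
    [0,0,0,0,2,0,0,0,0,0,2,2,0,0,6,0,2,0,0,(-2),0,0,2,2],
    [(-2),(-2),2,2,0,(-2),2,2,2,2,0,0,2,2,0,(-2),0,2,2,0,(-2),(-2),0,0],
    [(-2),2,2,(-2),0,2,(-2),2,2,(-2),0,0,2,(-2),0,(-2),0,(-2),(-2),0,(-2),(-2),0,0],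
    [(-2),(-2),(-2),2,0,(-2),(-2),(-2),2,2,0,0,2,(-2),0,2,0,(-2),(-2),0,(-2),2,0,0],
    [2,(-2),2,(-2),0,2,2,2,(-2),2,0,0,2,(-2),0,2,0,(-2),2,0,(-2),2,0,0],
    [2,2,(-2),(-2),0,(-2),2,2,2,2,0,0,2,(-2),0,(-2),0,2,(-2),0,2,2,0,0],
    [(-2),2,(-2),(-2),0,(-2),(-2),2,(-2),2,0,0,(-2),2,0,(-2),0,(-2),2,0,(-2),2,0,0],
    [0,0,0,0,2,0,0,0,0,0,2,2,0,0,(-2),0,2,0,0,(-2),0,0,2,(-6)],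
    [0,0,0,0,(-2),0,0,0,0,0,(-2),(-2),0,0,2,0,(-2),0,0,(-6),0,0,(-2),(-2)],
    [2,(-2),2,(-2),0,(-2),(-2),(-2),2,(-2),0,0,(-2),(-2),0,(-2),0,2,2,0,(-2),2,0,0]],
   [[(-3),1,(-1),(-1),(-3),1,(-1),(-1),(-1),1,3,(-1),1,1,3,1,(-1),(-1),(-1),(-3),1,(-1),1,1],
    [(-1),(-1),1,1,3,(-1),1,(-3),1,(-1),1,1,3,(-1),1,(-1),1,1,1,(-1),(-1),(-3),3,(-1)],
    [1,1,(-1),(-1),1,1,3,(-1),(-1),1,(-1),(-1),(-3),(-3),(-1),1,3,(-1),(-1),(-3),1,(-1),1,1],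
    [(-1),(-1),1,1,(-1),(-1),1,1,1,(-1),(-3),1,(-1),3,1,(-1),1,1,(-3),(-1),3,1,3,(-1)],
    [1,1,(-1),3,1,(-3),(-1),(-1),(-5),1,(-1),(-1),1,1,(-1),1,(-1),(-1),(-1),1,1,(-1),1,1],
    [(-1),3,(-3),1,3,(-1),1,1,1,(-1),1,(-3),(-1),3,1,(-1),1,1,1,(-1),(-1),1,(-1),(-1)],
    [1,(-3),(-1),(-1),1,1,3,(-1),(-1),1,(-1),(-1),1,1,3,(-3),(-1),(-1),(-1),1,1,(-1),(-3),1],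
    [1,1,3,(-1),1,1,(-1),(-1),(-1),1,(-1),(-1),1,1,3,1,3,(-1),(-1),1,(-3),3,1,1],
    [1,1,(-1),(-1),1,1,(-1),(-1),(-1),1,(-1),3,(-3),1,3,1,(-1),3,3,1,1,(-1),1,1],
    [(-1),3,1,1,(-1),(-1),1,1,1,(-1),1,1,(-1),(-1),1,(-1),1,1,(-3),3,(-1),(-3),(-1),3],
    [(-1),(-1),1,5,(-1),3,1,1,(-3),(-1),1,1,(-1),(-1),1,(-1),1,1,1,(-1),(-1),1,(-1),(-1)],
    [(-3),1,(-1),(-1),1,1,(-1),(-1),(-1),1,(-1),3,1,1,(-1),1,3,(-1),(-1),1,1,(-1),(-3),(-3)],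
    [3,(-1),(-3),1,(-1),(-1),(-3),(-3),1,(-1),1,1,(-1),(-1),1,(-1),1,1,(-3),(-1),(-1),1,(-1),(-1)],
    [(-1),(-1),1,1,3,(-1),1,1,1,3,1,1,(-1),(-1),1,3,(-3),1,(-3),(-1),(-1),1,(-1),(-1)],
    [1,1,3,(-1),1,1,(-1),(-1),(-1),(-3),(-1),(-1),1,1,(-1),1,(-1),3,(-1),(-3),1,(-1),(-3),1],
    [1,1,(-1),(-1),1,1,3,(-1),(-1),(-3),3,3,1,1,(-1),1,(-1),(-1),(-1),1,1,3,1,1],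
    [(-1),3,1,1,(-1),(-1),1,(-3),1,(-1),(-3),1,(-1),(-1),1,(-1),(-3),(-3),1,(-1),(-1),1,(-1),(-1)],
    [(-1),(-1),1,(-3),(-1),(-5),1,1,(-3),(-1),1,1,(-1),(-1),1,(-1),1,1,1,(-1),(-1),1,(-1),(-1)],
    [(-3),1,(-1),(-1),1,1,(-1),(-1),(-1),1,(-1),(-1),1,(-3),(-1),(-3),(-1),3,(-1),1,1,3,1,1],
    [3,3,1,1,(-1),(-1),1,1,1,3,1,1,3,(-1),1,(-1),1,1,1,(-1),3,1,(-1),(-1)],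
    [(-1),(-1),1,1,3,(-1),(-3),1,1,(-1),1,1,(-1),(-1),1,(-1),1,(-3),1,(-1),3,1,(-1),3],
    [1,1,(-1),(-1),1,1,(-1),3,(-1),(-3),(-1),(-1),1,(-3),3,1,(-1),(-1),(-1),1,1,(-1),1,(-3)],
    [(-1),(-1),1,1,(-1),(-1),1,(-3),1,(-1),1,(-3),(-1),(-1),1,3,1,1,1,3,3,1,(-1),(-1)],
    [1,1,3,(-1),1,1,(-1),(-1),(-1),1,3,(-1),(-3),1,(-1),(-3),(-1),(-1),(-1),1,1,(-1),1,(-3)]]]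

/-- The action of the last one. -/
def fiveAct : List (List ℕ) := [[1, 4, 2], [1, 3, 1], [3, 1, 4]]

/-- Coordinates of the error term. -/
def fiveShift : List ℕ := [4, 1, 0]

end Cfsg.Agent.Schur.Co1Local
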