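import Cfsg.Agent.Lib.Schur.Co1Local.Setup
import Cfsg.Agent.Lib.Schur.Co1Local.FiveData

/-!
Kernel checks of the identities at 5.
-/

set_option autoImplicit false
set_option maxRecDepth 20000

namespace Cfsg.Agent.Schur.Co1Local

open Cfsg Cfsg.Agent.Leech

theorem five_matOK : fiveRows.all matOK = true := by decide +kernel

theorem five_basis : basisOK 5 3 fiveRows = true := by decide +kernel

theorem five_act_u : actOK fiveRows 3 (scalarCert 5 3 2 3).M = true := by decide +kernel

theorem five_act_c : actOK fiveRows 4 (tblMat 5 3 fiveAct) = true := by decide +kernel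

theorem five_rel : eqWordOK fiveRows [4, 3]
    ([3] ++ wordV (fun j : Fin 3 => fiveShift.getD j.val 0) ++ [4]) = true := by decide +kernel

theorem five_pow : eqWordOK fiveRows (List.replicate 5 4) [] = true := by decide +kernel

end Cfsg.Agent.Schur.Co1Local
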