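import Cfsg.Agent.Lib.Schur.Co1Local.Tools

/-!
An element acting as a scalar `k` with `1 - k²` and `k - 1` invertible.
-/

set_option autoImplicit false

namespace Cfsg.Agent.Schur.Co1Local

open Cfsg

/-- The certificate of `k • 1`. -/
def scalarCert (p r k x : ℕ) : PolyCert p r where
  M := (k : ZMod p) • 1
  d := 1
  P i := if i = 0 then 1 else (k : ZMod p) • 1
  f i := if i = 0 then p - k else 1
  S := (((p - k) * k + 1 : ℕ) : ZMod p) • 1
  X := (x : ZMod p) • 1

theorem scalarCert_ok {p r k : ℕ} (hk : k ≤ p) (x : ℕ) : (scalarCert p r k x).OK := by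
  refine ⟨rfl, fun i => ?_, fun a b => ?_, fun a b => ?_⟩
  · have h0 : i.val = 0 := Nat.lt_one_iff.1 i.isLt
    rw [h0]
    simp [scalarCert]
  · show ∑ i : Fin 2, ((if i.val = 0 then p - k else 1 : ℕ) : ZMod p) *
      (if i.val = 0 then (1 : Matrix (Fin r) (Fin r) (ZMod p)) else (k : ZMod p) • 1) a b = 0
    rw [Fin.sum_univ_two]
    simp [Nat.cast_sub hk, Matrix.one_apply]
    split_ifs <;> ring
  · show ((((p - k) * k + 1 : ℕ) : ZMod p) • (1 : Matrix (Fin r) (Fin r) (ZMod p))) a b =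
      ∑ i : Fin 2, ((if i.val = 0 then p - k else 1 : ℕ) : ZMod p) *
        (if 1 - i.val = 0 then (1 : Matrix (Fin r) (Fin r) (ZMod p)) else (k : ZMod p) • 1) a b
    rw [Fin.sum_univ_two]
    simp [Nat.cast_sub hk, Matrix.one_apply]
    split_ifs <;> ring

theorem scalarCert_one {p r k x : ℕ} (h : ((((p - k) * k + 1) * x : ℕ) : ZMod p) = 1) (a b : Fin r) :
    ([scalarCert p r k x].map fun C => (C.S * C.X) a b).sum = (1 : Matrix (Fin r) (Fin r) (ZMod p)) a b := by
  have e : (scalarCert p r k x).S * (scalarCert p r k x).X = 1 := by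
    simp only [scalarCert, smul_mul_smul_comm, one_mul, ← Nat.cast_mul, h, one_smul]
  simp [e]

end Cfsg.Agent.Schur.Co1Local
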