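import Cfsg.Agent.Lib.Schur.Co1Local.Scalar

/-!
From checked words to coordinates and actions in `Co₁`.
-/

set_option autoImplicit false

namespace Cfsg.Agent.Schur.Co1Local

open Cfsg Cfsg.Agent.Leech

theorem finite_co1 : Finite Spor.Co1 := Nat.finite_of_card_ne_zero (by rw [card_co1]; norm_num)

/-- Pairwise commuting, `p`-th powers trivial, coordinates unique. -/
def basisOK (p r : ℕ) (ms : List (List (List ℤ))) : Bool :=
  decide (r ≤ ms.length) &&
  ((List.range r).all fun i => (List.range r).all fun j => decide (j ≤ i) || eqWordOK ms [i, j] [j, i]) &&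
  ((List.range r).all fun i => eqWordOK ms (List.replicate p i) []) &&
  injOK p ((List.finRange r).map fun i : Fin r => ms.getD i.val [])

theorem exists_param {p r : ℕ} [NeZero p] {ms : List (List (List ℤ))} {g : ℕ → Co0}
    (hg : Realises ms g) (h : basisOK p r ms = true) :
    ∃ N : Param Spor.Co1 p r, N.π = coordProd fun i => toCo1 (g i) := by
  simp only [basisOK, Bool.and_eq_true, List.all_eq_true, List.mem_range, decide_eq_true_eq,
    Bool.or_eq_true] at h
  obtain ⟨⟨⟨hr, hc⟩, hp⟩, hinj⟩ := h
  have hcomm : ∀ i j : Fin r, Commute (toCo1 (g i.val)) (toCo1 (g j.val)) := by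
    intro i j
    have key : ∀ a b : Fin r, a.val < b.val → Commute (toCo1 (g a.val)) (toCo1 (g b.val)) := by
      intro a b hab
      rcases hc a.val a.isLt b.val b.isLt with h | h
      · omega
      · have := map_word_eq hg h
        simp only [List.map_cons, List.map_nil, List.prod_cons, List.prod_nil, mul_one] at this
        exact this
    rcases lt_trichotomy i.val j.val with h | h | h
    · exact key i j h
    · rw [h]
    · exact (key j i h).symm
  have hpow : ∀ i : Fin r, toCo1 (g i.val) ^ p = 1 := fun i => by
    have := map_word_eq hg (hp i.val i.isLt)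
    rwa [List.map_replicate, List.prod_replicate, List.map_nil, List.prod_nil] at this
  exact ⟨⟨coordProd fun i => toCo1 (g i), coordProd_add _ hcomm hpow,
    fun v hv => eq_zero_of_injOK hg hr hinj v hv⟩, rfl⟩

/-- The matrix `M` describes conjugation by the element number `x`. -/
def actOK {p r : ℕ} (ms : List (List (List ℤ))) (x : ℕ) (M : Matrix (Fin r) (Fin r) (ZMod p)) :
    Bool :=
  (List.finRange r).all fun i => eqWordOK ms [x, i.val] (wordV (fun j => (M j i).val) ++ [x])

theorem acts_of_actOK {p r : ℕ} [NeZero p] [Fact (1 < p)] {ms : List (List (List ℤ))} {g : ℕ → Co0}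
    (hg : Realises ms g) (N : Param Spor.Co1 p r) (hN : N.π = coordProd fun i => toCo1 (g i))
    {x : ℕ} {M : Matrix (Fin r) (Fin r) (ZMod p)} (h : actOK ms x M = true) :
    N.Acts (toCo1 (g x)) M := by
  refine N.acts_of_basis fun i => ?_
  have := map_word_eq hg (List.all_eq_true.1 h i (List.mem_finRange i))
  rw [List.map_append, List.prod_append, prod_wordV] at this
  simp only [List.map_cons, List.map_nil, List.prod_cons, List.prod_nil, mul_one] at this
  rw [hN, coordProd_single]
  exact this

theorem toCo1_word {ms : List (List (List ℤ))} {g : ℕ → Co0} (hg : Realises ms g) {L R : List ℕ}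
    (h : eqWordOK ms L R = true) :
    (L.map fun i => toCo1 (g i)).prod = (R.map fun i => toCo1 (g i)).prod := map_word_eq hg h

end Cfsg.Agent.Schur.Co1Local
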