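import Mathlib.Data.Nat.Notation
import Mathlib.Data.Int.Notation

/-!
Two commuting elements of order 7 and an element squaring both, as matrices.
-/

set_option autoImplicit false

namespace Cfsg.Agent.Schur.Co1Local

/-- The matrices. -/
noncomputable def sevenRows : List (List (List ℤ)) :=
  [[[0,0,0,0,0,0,0,0,0,0,0,0,0,0,0,0,0,0,8,0,0,0,0,0],
    [0,0,0,0,0,0,0,0,0,0,0,0,0,0,0,0,8,0,0,0,0,0,0,0],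
    [0,0,0,0,0,0,8,0,0,0,0,0,0,0,0,0,0,0,0,0,0,0,0,0],
    [0,0,0,0,0,0,0,0,8,0,0,0,0,0,0,0,0,0,0,0,0,0,0,0],
    [0,0,0,0,0,0,0,0,0,0,0,0,0,8,0,0,0,0,0,0,0,0,0,0],
    [0,0,0,0,0,0,0,0,0,0,0,0,0,0,0,8,0,0,0,0,0,0,0,0],
    [0,0,0,0,0,0,0,0,0,0,0,0,0,0,0,0,0,0,0,0,8,0,0,0],
    [0,0,0,0,0,0,0,8,0,0,0,0,0,0,0,0,0,0,0,0,0,0,0,0],
    [0,0,0,0,8,0,0,0,0,0,0,0,0,0,0,0,0,0,0,0,0,0,0,0],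
    [0,0,0,8,0,0,0,0,0,0,0,0,0,0,0,0,0,0,0,0,0,0,0,0],
    [0,0,0,0,0,0,0,0,0,0,8,0,0,0,0,0,0,0,0,0,0,0,0,0],
    [0,8,0,0,0,0,0,0,0,0,0,0,0,0,0,0,0,0,0,0,0,0,0,0],
    [0,0,0,0,0,0,0,0,0,8,0,0,0,0,0,0,0,0,0,0,0,0,0,0],
    [0,0,0,0,0,0,0,0,0,0,0,0,0,0,0,0,0,8,0,0,0,0,0,0],
    [0,0,8,0,0,0,0,0,0,0,0,0,0,0,0,0,0,0,0,0,0,0,0,0],
    [0,0,0,0,0,0,0,0,0,0,0,0,0,0,0,0,0,0,0,0,0,0,0,8],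
    [0,0,0,0,0,0,0,0,0,0,0,0,0,0,0,0,0,0,0,8,0,0,0,0],
    [0,0,0,0,0,0,0,0,0,0,0,0,8,0,0,0,0,0,0,0,0,0,0,0],
    [0,0,0,0,0,0,0,0,0,0,0,0,0,0,0,0,0,0,0,0,0,0,8,0],
    [8,0,0,0,0,0,0,0,0,0,0,0,0,0,0,0,0,0,0,0,0,0,0,0],
    [0,0,0,0,0,8,0,0,0,0,0,0,0,0,0,0,0,0,0,0,0,0,0,0],
    [0,0,0,0,0,0,0,0,0,0,0,0,0,0,0,0,0,0,0,0,0,8,0,0],
    [0,0,0,0,0,0,0,0,0,0,0,8,0,0,0,0,0,0,0,0,0,0,0,0],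
    [0,0,0,0,0,0,0,0,0,0,0,0,0,0,8,0,0,0,0,0,0,0,0,0]],
   [[(-4),0,(-2),4,0,2,(-2),2,0,0,0,0,0,0,(-2),(-2),0,0,0,0,2,0,0,2],
    [0,(-4),2,0,0,(-2),(-2),2,0,0,0,0,0,0,2,(-2),0,4,0,0,2,0,0,(-2)],
    [0,0,2,0,0,2,(-2),(-2),0,4,0,0,0,0,2,(-2),0,0,0,(-4),(-2),0,0,2],
    [(-2),(-2),0,(-2),(-2),0,0,0,(-2),2,(-2),2,2,2,0,0,2,(-2),(-2),2,0,(-2),(-2),0],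
    [2,(-2),0,2,(-2),0,0,0,2,(-2),(-2),(-2),2,(-2),0,0,2,(-2),2,(-2),0,(-2),(-2),0],
    [0,0,(-2),0,4,2,2,(-2),0,0,0,0,0,0,2,(-2),0,0,0,0,2,0,(-4),(-2)],
    [(-4),0,2,4,0,(-2),2,(-2),0,0,0,0,0,0,2,2,0,0,0,0,(-2),0,0,(-2)],
    [0,0,2,0,0,2,2,2,0,0,4,0,0,0,2,2,0,0,0,0,2,(-4),0,2],
    [2,2,0,2,(-2),0,0,0,(-2),2,(-2),(-2),(-2),(-2),0,0,(-2),2,(-2),2,0,(-2),(-2),0],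
    [(-2),2,0,(-2),2,0,0,0,(-2),(-2),(-2),(-2),2,(-2),0,0,2,2,(-2),(-2),0,(-2),2,0],
    [2,2,0,2,2,0,0,0,2,2,(-2),2,2,2,0,0,2,2,2,2,0,(-2),2,0],
    [0,0,(-2),0,0,(-2),2,2,0,0,0,(-4),0,4,2,(-2),0,0,0,0,(-2),0,0,2],
    [(-2),2,0,(-2),(-2),0,0,0,2,(-2),(-2),2,(-2),2,0,0,(-2),2,2,(-2),0,(-2),(-2),0],
    [(-2),(-2),0,(-2),2,0,0,0,2,2,(-2),(-2),(-2),(-2),0,0,(-2),(-2),2,2,0,(-2),2,0],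
    [0,0,(-2),0,0,(-2),(-2),(-2),0,0,0,0,4,0,2,2,(-4),0,0,0,2,0,0,2],
    [0,0,2,0,0,2,(-2),(-2),0,0,0,(-4),0,4,(-2),2,0,0,0,0,2,0,0,(-2)],
    [0,0,2,0,0,2,2,2,0,0,0,0,4,0,(-2),(-2),(-4),0,0,0,(-2),0,0,(-2)],
    [2,(-2),0,2,2,0,0,0,(-2),(-2),(-2),2,(-2),2,0,0,(-2),(-2),(-2),(-2),0,(-2),2,0],
    [0,0,(-2),0,0,2,(-2),2,4,0,0,0,0,0,2,2,0,0,(-4),0,(-2),0,0,(-2)],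
    [0,0,(-2),0,0,(-2),2,2,0,4,0,0,0,0,(-2),2,0,0,0,(-4),2,0,0,(-2)],
    [0,0,2,0,0,(-2),2,(-2),4,0,0,0,0,0,(-2),(-2),0,0,(-4),0,2,0,0,2],
    [0,0,(-2),0,0,(-2),(-2),(-2),0,0,4,0,0,0,(-2),(-2),0,0,0,0,(-2),(-4),0,(-2)],
    [0,0,2,0,4,(-2),(-2),2,0,0,0,0,0,0,(-2),2,0,0,0,0,(-2),0,(-4),2],
    [0,(-4),(-2),0,0,2,2,(-2),0,0,0,0,0,0,(-2),2,0,4,0,0,(-2),0,0,2]],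
   [[0,0,2,(-2),(-2),(-2),(-2),(-2),(-2),2,(-2),0,2,2,2,2,0,(-2),0,0,(-2),0,0,(-2)],
    [0,0,(-2),2,(-2),(-2),2,(-2),2,(-2),(-2),0,2,(-2),2,(-2),0,(-2),0,0,2,0,0,(-2)],
    [2,2,0,0,0,0,0,0,0,0,0,(-2),0,(-4),0,4,2,0,(-2),(-2),0,2,(-2),0],
    [2,(-2),0,(-4),0,0,4,0,0,0,0,2,0,0,0,0,2,0,(-2),2,0,(-2),(-2),0],
    [2,2,0,0,0,0,0,0,(-4),0,0,(-2),0,0,0,0,(-2),0,2,2,4,(-2),(-2),0],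
    [(-2),(-2),0,0,0,0,0,0,(-4),0,0,2,0,0,0,0,2,0,(-2),(-2),4,2,2,0],
    [(-2),2,0,(-4),0,0,4,0,0,0,0,(-2),0,0,0,0,(-2),0,2,(-2),0,2,2,0],
    [(-2),(-2),0,0,0,0,0,4,0,0,(-4),(-2),0,0,0,0,(-2),0,(-2),(-2),0,(-2),(-2),0],
    [2,2,0,0,0,0,0,0,0,0,0,2,0,0,0,0,(-2),(-4),(-2),(-2),0,(-2),2,4],
    [(-2),(-2),0,0,0,0,0,0,0,0,0,2,0,(-4),0,4,(-2),0,2,2,0,(-2),2,0],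
    [2,2,0,0,0,0,0,4,0,0,(-4),2,0,0,0,0,2,0,2,2,0,2,2,0],
    [0,0,(-2),(-2),(-2),(-2),(-2),(-2),2,(-2),(-2),0,(-2),2,(-2),2,0,2,0,0,2,0,0,2],
    [(-2),2,4,0,0,0,0,0,0,(-4),0,(-2),0,0,0,0,2,0,(-2),2,0,(-2),2,0],
    [(-2),2,0,0,0,0,0,0,0,0,0,2,(-4),0,4,0,2,0,2,(-2),0,(-2),(-2),0],
    [2,(-2),4,0,0,0,0,0,0,(-4),0,2,0,0,0,0,(-2),0,2,(-2),0,2,(-2),0],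
    [2,(-2),0,0,0,0,0,0,0,0,0,(-2),(-4),0,4,0,(-2),0,(-2),2,0,2,2,0],
    [0,0,(-2),(-2),2,2,(-2),(-2),(-2),(-2),(-2),0,2,(-2),2,(-2),0,2,0,0,(-2),0,0,2],
    [2,(-2),0,0,(-4),4,0,0,0,0,0,(-2),0,0,0,0,2,0,2,(-2),0,(-2),2,0],
    [0,0,(-2),2,2,2,2,(-2),(-2),(-2),(-2),0,(-2),2,(-2),2,0,(-2),0,0,(-2),0,0,(-2)],
    [0,0,2,(-2),2,2,(-2),(-2),2,2,(-2),0,(-2),(-2),(-2),(-2),0,(-2),0,0,2,0,0,(-2)],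
    [(-2),(-2),0,0,0,0,0,0,0,0,0,(-2),0,0,0,0,2,(-4),2,2,0,2,(-2),4],
    [0,0,2,2,2,2,2,(-2),2,2,(-2),0,2,2,2,2,0,2,0,0,2,0,0,2],
    [0,0,2,2,(-2),(-2),2,(-2),(-2),2,(-2),0,(-2),(-2),(-2),(-2),0,2,0,0,(-2),0,0,2],
    [(-2),2,0,0,(-4),4,0,0,0,0,0,2,0,0,0,0,(-2),0,(-2),2,0,2,(-2),0]]]

end Cfsg.Agent.Schur.Co1Local
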