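import Cfsg.Agent.Lib.Schur.Co1Local.Scalar
import Cfsg.Agent.Lib.Schur.Co1Local.SevenData

/-!
At 7 a central extension of `Co₁` is abelian over a Sylow subgroup.
-/

set_option autoImplicit false
set_option maxRecDepth 20000

namespace Cfsg.Agent.Schur.Co1Local

open Cfsg Cfsg.Agent.Leech Subgroup
open scoped commutatorElement

/-- The matrices at 7. -/
noncomputable def sevenMs : List (List (List ℤ)) := sevenRows

theorem seven_matOK : sevenMs.all matOK = true := by decide +kernel

theorem seven_comm : eqWordOK sevenMs [0, 1] [1, 0] = true := by decide +kernel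

theorem seven_pow : ∀ i : Fin 2, eqWordOK sevenMs (List.replicate 7 i.val) [] = true := by
  decide +kernel

theorem seven_acts : ∀ i : Fin 2, eqWordOK sevenMs [2, i.val]
    (wordV (fun j : Fin 2 => if j = i then 2 else 0) ++ [2]) = true := by decide +kernel

theorem seven_inj :
    injOK 7 ((List.finRange 2).map fun i : Fin 2 => sevenMs.getD i.val []) = true := by
  decide +kernel

theorem seven_len : 3 = sevenMs.length := by decide +kernel

theorem local_seven {Γ : Type*} [Group Γ] (σ : Γ →* Spor.Co1) (hσ : Function.Surjective σ)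
    (hz : σ.ker ≤ center Γ) : ∃ H : Subgroup Γ, ¬ 7 ∣ H.index ∧ ⁅H, H⁆ ⊓ σ.ker = ⊥ := by
  obtain ⟨g, hg⟩ := exists_realises seven_matOK
  haveI : Fact (1 < 7) := ⟨by norm_num⟩
  set E : ℕ → Spor.Co1 := fun i => toCo1 (g i) with hE
  have hcomm : ∀ i j : Fin 2, Commute (E i.val) (E j.val) := by
    have h := map_word_eq hg seven_comm
    simp only [List.map_cons, List.map_nil, List.prod_cons, List.prod_nil, mul_one] at h
    intro i j
    fin_cases i <;> fin_cases j <;>
      first | exact Commute.refl _ | exact h | exact h.symm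
  have hpow : ∀ i : Fin 2, E i.val ^ 7 = 1 := fun i => by
    have h := map_word_eq hg (seven_pow i)
    rwa [List.map_replicate, List.prod_replicate, List.map_nil, List.prod_nil] at h
  let N : Param Spor.Co1 7 2 :=
    ⟨coordProd E, coordProd_add E hcomm hpow,
      fun v hv => eq_zero_of_injOK hg (by rw [← seven_len]; norm_num) seven_inj v hv⟩
  haveI : Finite Spor.Co1 := Nat.finite_of_card_ne_zero (by rw [card_co1]; norm_num)
  have hacts : N.Acts (E 2) (scalarCert 7 2 2 2).M := by
    refine N.acts_of_basis fun i => ?_
    have h := map_word_eq hg (seven_acts i)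
    rw [List.map_append, List.prod_append, prod_wordV] at h
    simp only [List.map_cons, List.map_nil, List.prod_cons, List.prod_nil, mul_one] at h
    show E 2 * coordProd E (Pi.single i 1) = coordProd E _ * E 2
    rw [coordProd_single]
    refine h.trans (congrArg (fun z : List Spor.Co1 => z.prod * E 2) (List.map_congr_left fun j _ => ?_))
    congr 1
    fin_cases i <;> fin_cases j <;> decide
  refine ⟨N.grp.comap σ, not_dvd_index_comap σ hσ (k := 2) (by norm_num) _
    (by rw [N.card_grp]) (by norm_num), ?_⟩
  refine eq_bot_iff.2 (inf_le_left.trans ?_)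
  rw [Subgroup.commutator_le]
  intro a ha b hb
  rw [mem_bot, commutatorElement_eq_one_iff_mul_comm]
  refine N.commute_lifts hσ hz [scalarCert 7 2 2 2] (fun C hC => ?_)
    (scalarCert_one (by decide)) ha hb
  rw [List.mem_singleton] at hC
  subst hC
  exact ⟨scalarCert_ok (by norm_num) _, _, hacts⟩

end Cfsg.Agent.Schur.Co1Local
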