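import Cfsg.Agent.Lib.Schur.Co1Local.ThreeBase

/-!
Kernel checks: actions at 3.
-/

set_option autoImplicit false
set_option maxRecDepth 20000

namespace Cfsg.Agent.Schur.Co1Local

open Cfsg Cfsg.Agent.Leech

theorem three_act_u : actOK threeMs 6 ((2 : ZMod 3) • (1 : Matrix (Fin 6) (Fin 6) (ZMod 3))) = true := by
  decide +kernel

theorem three_act_a : actOK threeMs 7 (tblMat 3 6 threeA) = true := by decide +kernel

theorem three_act_b : actOK threeMs 8 (tblMat 3 6 threeB) = true := by decide +kernel

theorem three_act_t : actOK threeMs 9 (tblMat 3 6 threeT) = true := by decide +kernel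

theorem three_act_g0 : actOK threeMs 10 threeCert0.M = true := by decide +kernel

theorem three_act_g1 : actOK threeMs 11 threeCert1.M = true := by decide +kernel

end Cfsg.Agent.Schur.Co1Local
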