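import Cfsg.Agent.Lib.Schur.Co1Local.ThreeBase

/-!
Kernel checks: relations at 3.
-/

set_option autoImplicit false
set_option maxRecDepth 20000

namespace Cfsg.Agent.Schur.Co1Local

open Cfsg Cfsg.Agent.Leech

theorem three_cent : ∀ i : Fin 3, eqWordOK threeMs [i.val + 7, 6] [6, i.val + 7] = true := by
  decide +kernel

theorem three_cubes : eqWordOK threeMs [7, 7, 7] [] = true ∧ eqWordOK threeMs [8, 8, 8] [] = true ∧
    eqWordOK threeMs (threeCWord ++ threeCWord ++ threeCWord) [] = true := by decide +kernel

theorem three_comm : eqWordOK threeMs (threeCWord ++ [7]) (7 :: threeCWord) = true ∧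
    eqWordOK threeMs (threeCWord ++ [8]) (8 :: threeCWord) = true := by decide +kernel

theorem three_inv : eqWordOK threeMs [9, 7] ([7, 7] ++ threeCWord ++ [9]) = true ∧
    eqWordOK threeMs [9, 8] [8, 8, 9] = true := by decide +kernel

end Cfsg.Agent.Schur.Co1Local
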