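import Cfsg.Agent.Lib.Schur.Co1Local.ThreeCheckA
import Cfsg.Agent.Lib.Schur.Co1Local.ThreeCheckB
import Cfsg.Agent.Lib.Schur.Co1Local.ThreeCheckC
import Cfsg.Agent.Lib.Schur.Co1Local.ThreeCheckD
import Cfsg.Agent.Lib.Schur.ThreeLocal

/-!
At 3 a central extension of `Co₁` meets no commutators of a Sylow subgroup: above the lift of `3⁶`
there is a group of order 27 inverted modulo its centre.
-/

set_option autoImplicit false
set_option maxRecDepth 20000

namespace Cfsg.Agent.Schur.Co1Local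

open Cfsg Cfsg.Agent.Leech Subgroup
open scoped commutatorElement

theorem threeCerts_ok : threeCert0.OK ∧ threeCert1.OK ∧
    threeCert0.S * threeCert0.X + threeCert1.S * threeCert1.X = 1 := by
  have h : (threeCert0.P 0 = 1 ∧
      (∀ i : Fin 6, threeCert0.P (i.val + 1) = threeCert0.M * threeCert0.P i.val) ∧
      (Matrix.of fun a b => ∑ i : Fin 7, (threeCert0.f i.val : ZMod 3) * threeCert0.P i.val a b) = 0 ∧
      threeCert0.S = (Matrix.of fun a b =>
        ∑ i : Fin 7, (threeCert0.f i.val : ZMod 3) * threeCert0.P (6 - i.val) a b)) ∧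
      (threeCert1.P 0 = 1 ∧
      (∀ i : Fin 6, threeCert1.P (i.val + 1) = threeCert1.M * threeCert1.P i.val) ∧
      (Matrix.of fun a b => ∑ i : Fin 7, (threeCert1.f i.val : ZMod 3) * threeCert1.P i.val a b) = 0 ∧
      threeCert1.S = (Matrix.of fun a b =>
        ∑ i : Fin 7, (threeCert1.f i.val : ZMod 3) * threeCert1.P (6 - i.val) a b)) ∧
      threeCert0.S * threeCert0.X + threeCert1.S * threeCert1.X = 1 := by
    decide +kernel
  obtain ⟨⟨a0, a1, a2, a3⟩, ⟨b0, b1, b2, b3⟩, hone⟩ := h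
  exact ⟨⟨a0, a1, fun a b => congrFun (congrFun a2 a) b, fun a b => congrFun (congrFun a3 a) b⟩,
    ⟨b0, b1, fun a b => congrFun (congrFun b2 a) b, fun a b => congrFun (congrFun b3 a) b⟩, hone⟩

/-- The twenty-seven matrices. -/
def threeTab (k : ℕ) : Matrix (Fin 6) (Fin 6) (ZMod 3) := tblMat 3 6 (threeTabs.getD k [])

theorem threeTab_ok :
    tblMat 3 6 threeA2 = tblMat 3 6 threeA * tblMat 3 6 threeA ∧
    tblMat 3 6 threeB2 = tblMat 3 6 threeB * tblMat 3 6 threeB ∧
    tblMat 3 6 threeC = tblMat 3 6 threeA * tblMat 3 6 threeB * (tblMat 3 6 threeA2 * tblMat 3 6 threeB2) ∧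
    threeTab 0 = 1 ∧ tblMat 3 6 threeC ≠ 1 ∧
    (∀ l : Fin 2, threeTab (l.val + 1) = tblMat 3 6 threeC * threeTab l.val) ∧
    (∀ j : Fin 2, ∀ l : Fin 3, threeTab (3 * (j.val + 1) + l.val) =
      tblMat 3 6 threeB * threeTab (3 * j.val + l.val)) ∧
    (∀ i : Fin 2, ∀ k : Fin 9, threeTab (9 * (i.val + 1) + k.val) =
      tblMat 3 6 threeA * threeTab (9 * i.val + k.val)) ∧
    ((List.range 27).map threeTab).Nodup ∧
    (((2 : ZMod 3) • (1 : Matrix (Fin 6) (Fin 6) (ZMod 3))) - 1 = 1) := by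
  decide +kernel

theorem eq_of_acts {G : Type*} [Group G] {p r : ℕ} [NeZero p] (N : Param G p r) {g : G}
    {M M' : Matrix (Fin r) (Fin r) (ZMod p)} (h : N.Acts g M) (h' : N.Acts g M') : M = M' := by
  ext a b
  have e := mul_right_cancel ((h (Pi.single b 1)).symm.trans (h' (Pi.single b 1)))
  have := congrFun (N.injective e) a
  rwa [Matrix.mulVec_single_one, Matrix.mulVec_single_one] at this

theorem acts_pi {G : Type*} [Group G] {p r : ℕ} [NeZero p] (N : Param G p r) (v : Fin r → ZMod p) :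
    N.Acts (N.π v) 1 := fun x => by rw [Matrix.one_mulVec, N.pi_comm]

/-- The argument at 3 in any group. -/
theorem local_three_gen {G Γ : Type} [Group G] [Finite G] [Group Γ] [Finite Γ] (σ : Γ →* G)
    (hσ : Function.Surjective σ) (hz : σ.ker ≤ center Γ) (N : Param G 3 6) (u A B T g0 g1 : G)
    (hu : N.Acts u ((2 : ZMod 3) • 1)) (ha : N.Acts A (tblMat 3 6 threeA))
    (hb : N.Acts B (tblMat 3 6 threeB)) (ht : N.Acts T (tblMat 3 6 threeT))
    (hg0 : N.Acts g0 threeCert0.M) (hg1 : N.Acts g1 threeCert1.M)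
    (hA3 : A ^ 3 = 1) (hB3 : B ^ 3 = 1) (hC3 : ⁅A, B⁆ ^ 3 = 1)
    (hCA : Commute ⁅A, B⁆ A) (hCB : Commute ⁅A, B⁆ B)
    (hTA : T * A * T⁻¹ = A⁻¹ * ⁅A, B⁆ ^ 1) (hTB : T * B * T⁻¹ = B⁻¹ * ⁅A, B⁆ ^ 0)
    (hAu : A * u = u * A) (hBu : B * u = u * B) (hTu : T * u = u * T) :
    ∃ X : Subgroup G, 3 ^ 9 ∣ Nat.card X ∧ ⁅X.comap σ, X.comap σ⁆ ⊓ σ.ker = ⊥ := by
  haveI : Fact (Nat.Prime 3) := ⟨by norm_num⟩
  haveI : Fact (1 < 3) := ⟨by norm_num⟩
  obtain ⟨hok0, hok1, hone⟩ := threeCerts_ok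
  obtain ⟨hA2, hB2, hCm, hT0, hC1, hTl, hTj, hTi, hTnd, hum⟩ := threeTab_ok
  have hcomm := fun X Y hX hY => N.commute_lifts hσ hz [threeCert0, threeCert1]
    (fun C hC => by
      rcases List.mem_cons.1 hC with rfl | hC
      · exact ⟨hok0, _, hg0⟩
      · rw [List.mem_singleton] at hC
        subst hC
        exact ⟨hok1, _, hg1⟩)
    (fun a b => by simp [← hone]) (X := X) (Y := Y) hX hY
  obtain ⟨U, hU⟩ := hσ u
  let F : N.Fpf σ := ⟨hσ, hz, hcomm, U, _, hU ▸ hu, 1, by rw [hum, one_mul],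
    by rw [hum, mul_one]⟩
  set C := ⁅A, B⁆ with hCdef
  have hAB3 : A ^ 3 = 1 ∧ B ^ 3 = 1 := ⟨hA3, hB3⟩
  have hAi : A⁻¹ = A * A := inv_eq_of_mul_eq_one_right (by rw [← mul_assoc, ← pow_two, ← pow_succ]; exact hA3)
  have hBi : B⁻¹ = B * B := inv_eq_of_mul_eq_one_right (by rw [← mul_assoc, ← pow_two, ← pow_succ]; exact hB3)
  have hC : N.Acts C (tblMat 3 6 threeC) := by
    rw [hCdef, commutatorElement_def, hAi, hBi, hCm, hA2, hB2, mul_assoc (A * B)]
    exact (ha.mul _ hb).mul _ ((ha.mul _ ha).mul _ (hb.mul _ hb))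
  -- the group of order 27
  have hBA : ∀ i : ℕ, B * A ^ i = A ^ i * B * C ^ (2 * i) := by
    intro i
    induction i with
    | zero => simp
    | succ i ih =>
      have h1 : B * A = A * B * C ^ 2 := by
        have e : B * A = C⁻¹ * A * B := by rw [hCdef, commutatorElement_def]; group
        have hCi : C⁻¹ = C ^ 2 := inv_eq_of_mul_eq_one_right (by rw [← pow_succ', hC3])
        rw [e, hCi, mul_assoc]
        exact ((hCA.mul_right hCB).pow_left 2).eq
      calc B * A ^ (i + 1) = A ^ i * B * C ^ (2 * i) * A := by rw [pow_succ, ← mul_assoc, ih]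
        _ = A ^ i * B * (A * C ^ (2 * i)) := by rw [mul_assoc (A ^ i * B), (hCA.pow_left _).eq]
        _ = A ^ i * (B * A) * C ^ (2 * i) := by simp only [mul_assoc]
        _ = _ := by
          rw [h1, pow_succ A, show 2 * (i + 1) = 2 + 2 * i by ring, pow_add]
          simp only [mul_assoc]
  let f : Fin 3 × Fin 3 × Fin 3 → G := fun q => A ^ q.1.val * B ^ q.2.1.val * C ^ q.2.2.val
  have hrange : ∀ i j l : ℕ, A ^ i * B ^ j * C ^ l ∈ Set.range f := fun i j l =>
    ⟨(⟨i % 3, Nat.mod_lt _ (by norm_num)⟩, ⟨j % 3, Nat.mod_lt _ (by norm_num)⟩,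
      ⟨l % 3, Nat.mod_lt _ (by norm_num)⟩), by
      show A ^ (i % 3) * B ^ (j % 3) * C ^ (l % 3) = _
      rw [← pow_eq_pow_mod _ hAB3.1, ← pow_eq_pow_mod _ hAB3.2, ← pow_eq_pow_mod _ hC3]⟩
  set K := closure ({A, B} : Set G) with hK
  have hKr : ∀ x ∈ K, x ∈ Set.range f := by
    intro x hx
    rw [← Subgroup.mem_toSubmonoid, hK, Subgroup.closure_toSubmonoid_of_finite] at hx
    induction hx using Submonoid.closure_induction_left with
    | one => simpa using hrange 0 0 0
    | mul_left y hy z _ ih =>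
      obtain ⟨q, rfl⟩ := ih
      rcases hy with hy' | hy'
      · have e : A * f q = A ^ (q.1.val + 1) * B ^ q.2.1.val * C ^ q.2.2.val := by
          simp only [f, pow_succ', mul_assoc]
        rw [hy', e]
        exact hrange _ _ _
      · have hy'' : y = B := hy'
        have e : B * f q = A ^ q.1.val * B ^ (q.2.1.val + 1) * C ^ (2 * q.1.val + q.2.2.val) := by
          simp only [f]
          rw [show B * (A ^ q.1.val * B ^ q.2.1.val * C ^ q.2.2.val) =
              B * A ^ q.1.val * B ^ q.2.1.val * C ^ q.2.2.val by simp only [mul_assoc],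
            hBA, mul_assoc (A ^ q.1.val * B), (hCB.pow_pow _ _).eq, pow_succ', pow_add]
          simp only [mul_assoc]
        rw [hy'', e]
        exact hrange _ _ _
  have hAK : A ∈ K := by rw [hK]; exact subset_closure (Set.mem_insert A _)
  have hBK : B ∈ K := by rw [hK]; exact subset_closure (Set.mem_insert_of_mem A (Set.mem_singleton B))
  have hCK : C ∈ K := by
    rw [hCdef, commutatorElement_def]
    exact mul_mem (mul_mem (mul_mem hAK hBK) (inv_mem hAK)) (inv_mem hBK)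
  have hKm : ∀ q, f q ∈ K := by
    rintro ⟨i, j, l⟩
    show A ^ i.val * B ^ j.val * C ^ l.val ∈ K
    exact mul_mem (mul_mem (pow_mem hAK i.val) (pow_mem hBK j.val)) (pow_mem hCK l.val)
  have h1 : N.Acts (1 : G) 1 := by
    have := acts_pi N 0
    rwa [N.pi_zero] at this
  have hCl : ∀ l : ℕ, l < 3 → N.Acts (C ^ l) (threeTab l) := by
    intro l
    induction l with
    | zero => intro _; rw [pow_zero, hT0]; exact h1
    | succ l ih =>
      intro h
      rw [pow_succ', show threeTab (l + 1) = _ from hTl ⟨l, by omega⟩]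
      exact hC.mul _ (ih (by omega))
  have hBl : ∀ j l : ℕ, j < 3 → l < 3 → N.Acts (B ^ j * C ^ l) (threeTab (3 * j + l)) := by
    intro j
    induction j with
    | zero => intro l _ hl; rw [pow_zero, one_mul, Nat.mul_zero, Nat.zero_add]; exact hCl l hl
    | succ j ih =>
      intro l h hl
      rw [pow_succ', mul_assoc,
        show threeTab (3 * (j + 1) + l) = _ from hTj ⟨j, by omega⟩ ⟨l, hl⟩]
      exact hb.mul _ (ih l (by omega) hl)
  have hAll : ∀ i j l : ℕ, i < 3 → j < 3 → l < 3 →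
      N.Acts (A ^ i * B ^ j * C ^ l) (threeTab (9 * i + (3 * j + l))) := by
    intro i
    induction i with
    | zero =>
      intro j l _ hj hl
      rw [pow_zero, one_mul, Nat.mul_zero, Nat.zero_add]
      exact hBl j l hj hl
    | succ i ih =>
      intro j l h hj hl
      rw [pow_succ', show A * A ^ i * B ^ j * C ^ l = A * (A ^ i * B ^ j * C ^ l) by simp only [mul_assoc],
        show threeTab (9 * (i + 1) + (3 * j + l)) = _ from hTi ⟨i, by omega⟩ ⟨3 * j + l, by omega⟩]
      exact ha.mul _ (ih j l (by omega) hj hl)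
  have hfinj : ∀ (v w : Fin 6 → ZMod 3) q q', N.π v * f q = N.π w * f q' → q = q' ∧ v = w := by
    rintro v w ⟨i, j, l⟩ ⟨i', j', l'⟩ e
    have a1 := (acts_pi N v).mul _ (hAll i.val j.val l.val i.isLt j.isLt l.isLt)
    have a2 := (acts_pi N w).mul _ (hAll i'.val j'.val l'.val i'.isLt j'.isLt l'.isLt)
    rw [one_mul] at a1 a2
    have hq : 9 * i.val + (3 * j.val + l.val) = 9 * i'.val + (3 * j'.val + l'.val) := by
      have hm := eq_of_acts N a1 (e ▸ a2)
      have hlt : ∀ a b c : Fin 3, 9 * a.val + (3 * b.val + c.val) < ((List.range 27).map threeTab).length :=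
        fun a b c => by simp; omega
      have := (hTnd.getElem_inj_iff (hi := hlt i j l) (hj := hlt i' j' l')).1 (by simpa using hm)
      exact this
    obtain ⟨rfl, rfl, rfl⟩ : i = i' ∧ j = j' ∧ l = l' :=
      ⟨Fin.ext (by omega), Fin.ext (by omega), Fin.ext (by omega)⟩
    exact ⟨rfl, N.injective (mul_right_cancel e)⟩
  have hKcard : Nat.card K = 27 := by
    have : Function.Bijective fun q => (⟨f q, hKm q⟩ : K) :=
      ⟨fun q q' e => (hfinj 0 0 q q' (by rw [show f q = f q' from congrArg Subtype.val e])).1,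
        fun x => by obtain ⟨q, hq⟩ := hKr x x.2; exact ⟨q, Subtype.ext hq⟩⟩
    rw [← Nat.card_congr (Equiv.ofBijective _ this)]
    simp
  set X := N.grp ⊔ K with hX
  have hKN : K ≤ normalizer (N.grp : Set G) := by
    rw [hK, closure_le]
    rintro _ (rfl | rfl)
    exacts [ha.mem_normalizer, hb.mem_normalizer]
  have hXcard : 3 ^ 9 ∣ Nat.card X := by
    have hpg : IsPGroup 3 X := by
      rw [hX, sup_comm]
      exact IsPGroup.to_sup_of_normal_right' (IsPGroup.of_card (n := 3) (by rw [hKcard]; norm_num))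
        (IsPGroup.of_card N.card_grp) hKN
    obtain ⟨m, hm⟩ := IsPGroup.iff_card.1 hpg
    rw [hm]
    refine pow_dvd_pow 3 ?_
    let f2 : (Fin 6 → ZMod 3) × (Fin 3 × Fin 3 × Fin 3) → X := fun q =>
      ⟨N.π q.1 * f q.2, mul_mem (Subgroup.mem_sup_left ⟨q.1, rfl⟩) (Subgroup.mem_sup_right (hKm q.2))⟩
    have hf2 : Function.Injective f2 := fun q q' e => by
      obtain ⟨e1, e2⟩ := hfinj _ _ _ _ (congrArg Subtype.val e)
      exact Prod.ext e2 e1
    have hle := Nat.card_le_card_of_injective f2 hf2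
    simp only [hm, Nat.card_prod, Nat.card_fun, Nat.card_fin, Nat.card_zmod] at hle
    by_contra hlt
    have h3 : (3 : ℕ) ^ m ≤ 3 ^ 8 := Nat.pow_le_pow_right (by norm_num) (by omega)
    norm_num at hle h3
    omega
  -- lifts
  obtain ⟨a', ha'⟩ := hσ A
  obtain ⟨b', hb'⟩ := hσ B
  obtain ⟨t', ht'⟩ := hσ T
  have hnB : ∀ (x : Γ) (M : Matrix (Fin 6) (Fin 6) (ZMod 3)), N.Acts (σ x) M →
      σ x * u = u * σ x → x ∈ normalizer (F.B : Set Γ) := fun x M hM hxu =>
    F.mem_normalizer_of hM.mem_normalizer 1 (one_mem _)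
      (by rw [show σ F.U = u from hU, pow_one, mul_one, hxu])
  set L := normalizer (F.B : Set Γ) ⊓ (normalizer (N.grp : Set G)).comap σ with hL
  have haL : a' ∈ L := ⟨hnB a' _ (ha'.symm ▸ ha) (ha'.symm ▸ hAu),
    show σ a' ∈ _ from ha'.symm ▸ ha.mem_normalizer⟩
  have hbL : b' ∈ L := ⟨hnB b' _ (hb'.symm ▸ hb) (hb'.symm ▸ hBu),
    show σ b' ∈ _ from hb'.symm ▸ hb.mem_normalizer⟩
  have htL : t' ∈ L := ⟨hnB t' _ (ht'.symm ▸ ht) (ht'.symm ▸ hTu),
    show σ t' ∈ _ from ht'.symm ▸ ht.mem_normalizer⟩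
  have hkerL : ∀ z : Γ, σ z = 1 → z ∈ L := by
    intro z hz1
    refine Subgroup.mem_inf.2 ⟨mem_normalizer_iff.2 fun b => ?_, mem_comap.2 ?_⟩
    · rw [← mem_center_iff.1 (hz hz1) b, mul_inv_cancel_right]
    · rw [hz1]; exact one_mem _
  have hXL : X ≤ L.map σ := by
    refine sup_le ?_ ?_
    · rintro _ ⟨v, rfl⟩
      refine ⟨F.sec v, ⟨F.mem_normalizer_of_mem ⟨v, (F.map_sec v).symm⟩, ?_⟩, F.map_sec v⟩
      exact Subgroup.le_normalizer ⟨v, (F.map_sec v).symm⟩
    · rw [hK, closure_le]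
      rintro _ (rfl | rfl)
      exacts [⟨a', haL, ha'⟩, ⟨b', hbL, hb'⟩]
  have hPL : X.comap σ ≤ L := by
    intro x hx
    obtain ⟨y, hy, hys⟩ := hXL hx
    have e : x = y * (y⁻¹ * x) := by group
    rw [e]
    exact mul_mem hy (hkerL _ (by rw [map_mul, map_inv, hys, inv_mul_cancel]))
  let res : L →* (normalizer (N.grp : Set G) : Subgroup G) :=
    (σ.comp L.subtype).codRestrict _ fun x => x.2.2
  let Nn := N.grp.subgroupOf (normalizer (N.grp : Set G))
  let ν : L →* (normalizer (N.grp : Set G) : Subgroup G) ⧸ Nn :=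
    (QuotientGroup.mk' Nn).comp res
  have hνone : ∀ x : L, ν x = 1 ↔ σ (x : Γ) ∈ N.grp := fun x =>
    (QuotientGroup.eq_one_iff _).trans Iff.rfl
  let B' := F.B.subgroupOf L
  haveI : B'.Normal := ⟨fun n hn x => (mem_normalizer_iff.1 x.2.1 _).1 hn⟩
  let τ : L ⧸ B' →* (normalizer (N.grp : Set G) : Subgroup G) ⧸ Nn :=
    QuotientGroup.lift B' ν fun x hx => (hνone x).2 (F.sigma_mem hx)
  have hτz : τ.ker ≤ center (L ⧸ B') := by
    intro y hy
    obtain ⟨x, rfl⟩ := QuotientGroup.mk'_surjective B' y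
    obtain ⟨b, hb1, z, hz1, hxbz⟩ := F.decompose ((hνone x).1 hy)
    rw [mem_center_iff]
    intro w
    obtain ⟨w, rfl⟩ := QuotientGroup.mk'_surjective B' w
    let zL : L := ⟨z, hkerL z hz1⟩
    have hxz : QuotientGroup.mk' B' x = QuotientGroup.mk' B' zL := by
      refine (QuotientGroup.eq).2 ?_
      show (x : Γ)⁻¹ * z ∈ F.B
      rw [hxbz, mul_inv_rev, mul_assoc, mem_center_iff.1 (hz hz1) b⁻¹, inv_mul_cancel_left]
      exact inv_mem hb1
    rw [hxz, ← map_mul, ← map_mul]
    exact congrArg _ (Subtype.ext (mem_center_iff.1 (hz hz1) (w : Γ)))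
  set mk := QuotientGroup.mk' B' with hmk
  set P := X.comap σ with hPdef
  let P' : Subgroup (L ⧸ B') := (P.subgroupOf L).map mk
  have key : ⁅P', P'⁆ ⊓ τ.ker = ⊥ := by
    let aL : L := ⟨a', haL⟩
    let bL : L := ⟨b', hbL⟩
    let tL : L := ⟨t', htL⟩
    have hτ : ∀ x : L, τ (mk x) = ν x := fun x => rfl
    have hco : ∀ (x : L) (y : G) (hy : y ∈ normalizer (N.grp : Set G)),
        σ (x : Γ) = y → τ (mk x) = QuotientGroup.mk' Nn ⟨y, hy⟩ := fun x y hy e =>
      congrArg (QuotientGroup.mk' Nn) (Subtype.ext e)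
    have eA := hco aL A ha.mem_normalizer ha'
    have eB := hco bL B hb.mem_normalizer hb'
    have eT := hco tL T ht.mem_normalizer ht'
    have eC : ⁅τ (mk aL), τ (mk bL)⁆ = QuotientGroup.mk' Nn ⟨C, hC.mem_normalizer⟩ := by
      rw [eA, eB, ← map_commutatorElement]
      rfl
    refine commutator_inf_ker_eq_bot_of_three τ hτz P' (a := mk aL) (b := mk bL) (t := mk tL)
      (i := 1) (j := 0) ?_ ?_ ?_ ?_ ?_ ?_ ?_ ?_ ?_
    · rw [eA, ← map_pow]; exact (congrArg _ (Subtype.ext hAB3.1)).trans (map_one _)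
    · rw [eC, ← map_pow]; exact (congrArg _ (Subtype.ext hC3)).trans (map_one _)
    · rw [eC]
      intro e
      obtain ⟨x, hx⟩ := (QuotientGroup.eq_one_iff _).1 e
      exact hC1 (eq_of_acts N hC ((show N.π x = C from hx) ▸ acts_pi N x))
    · rw [eC, eA]
      exact (Commute.map (Subtype.ext hCA : Commute (⟨C, hC.mem_normalizer⟩ :
        (normalizer (N.grp : Set G) : Subgroup G)) ⟨A, ha.mem_normalizer⟩) _)
    · rw [eC, eB]
      exact (Commute.map (Subtype.ext hCB : Commute (⟨C, hC.mem_normalizer⟩ :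
        (normalizer (N.grp : Set G) : Subgroup G)) ⟨B, hb.mem_normalizer⟩) _)
    · rw [eC, eA, eT, ← map_inv, ← map_inv, ← map_pow, ← map_mul, ← map_mul, ← map_mul]
      exact congrArg _ (Subtype.ext hTA)
    · rw [eC, eB, eT, ← map_inv, ← map_inv, ← map_pow, ← map_mul, ← map_mul, ← map_mul]
      exact congrArg _ (Subtype.ext hTB)
    · rw [eB, ← map_pow]; exact (congrArg _ (Subtype.ext hAB3.2)).trans (map_one _)
    · rintro _ ⟨_, ⟨x, hx, rfl⟩, rfl⟩
      rw [eA, eB]
      set S := closure ({QuotientGroup.mk' Nn ⟨A, ha.mem_normalizer⟩,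
        QuotientGroup.mk' Nn ⟨B, hb.mem_normalizer⟩} : Set _) with hS
      have hle : X ≤ (S.comap (QuotientGroup.mk' Nn)).map (Subgroup.subtype _) := by
        refine sup_le ?_ ?_
        · intro n hn
          refine ⟨⟨n, Subgroup.le_normalizer hn⟩, ?_, rfl⟩
          rw [SetLike.mem_coe, mem_comap,
            show QuotientGroup.mk' Nn ⟨n, Subgroup.le_normalizer hn⟩ = 1 from
              (QuotientGroup.eq_one_iff _).2 hn]
          exact one_mem _
        · rw [hK, closure_le]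
          intro z hz'
          rcases hz' with hz' | hz'
          · rw [hz']
            exact ⟨⟨A, ha.mem_normalizer⟩, subset_closure (Set.mem_insert _ _), rfl⟩
          · rw [Set.mem_singleton_iff.1 hz']
            exact ⟨⟨B, hb.mem_normalizer⟩,
              subset_closure (Set.mem_insert_of_mem _ (Set.mem_singleton _)), rfl⟩
      obtain ⟨y, hy, hys⟩ := hle (show σ (x : Γ) ∈ X from hx)
      rw [hτ]
      show QuotientGroup.mk' Nn (res x) ∈ S
      rw [show res x = y from Subtype.ext hys.symm]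
      exact hy
  refine ⟨X, hXcard, ?_⟩
  rw [eq_bot_iff]
  rintro x ⟨hx, hx1⟩
  have hmap : (P.subgroupOf L).map L.subtype = P := Subgroup.map_subgroupOf_eq_of_le hPL
  have hx2 : x ∈ (⁅P.subgroupOf L, P.subgroupOf L⁆).map L.subtype := by
    rw [Subgroup.map_commutator, hmap]; exact hx
  obtain ⟨y, hy, rfl⟩ := hx2
  have h1 : mk y ∈ ⁅P', P'⁆ ⊓ τ.ker := by
    refine ⟨?_, (hνone y).2 ?_⟩
    · show mk y ∈ ⁅P', P'⁆
      rw [show ⁅P', P'⁆ = (⁅P.subgroupOf L, P.subgroupOf L⁆).map mk from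
        (Subgroup.map_commutator _ _ mk).symm]
      exact ⟨y, hy, rfl⟩
    · rw [show σ (y : Γ) = 1 from hx1]; exact one_mem _
  rw [key, Subgroup.mem_bot] at h1
  exact Subgroup.mem_bot.2 (F.eq_one_of_mem ((QuotientGroup.eq_one_iff y).1 h1) hx1)

theorem local_three {Γ : Type} [Group Γ] [Finite Γ] (σ : Γ →* Spor.Co1)
    (hσ : Function.Surjective σ) (hz : σ.ker ≤ center Γ) :
    ∃ H : Subgroup Γ, ¬ 3 ∣ H.index ∧ ⁅H, H⁆ ⊓ σ.ker = ⊥ := by
  haveI := finite_co1
  haveI : Fact (1 < 3) := ⟨by norm_num⟩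
  obtain ⟨g, hg⟩ := exists_realises three_matOK
  obtain ⟨N, hN⟩ := exists_param hg three_basis
  have two : ∀ {x y z : ℕ}, eqWordOK threeMs [x, y] [z, x] = true →
      toCo1 (g x) * toCo1 (g y) = toCo1 (g z) * toCo1 (g x) := fun h => by
    have := toCo1_word hg h
    simpa only [List.map_cons, List.map_nil, List.prod_cons, List.prod_nil, mul_one] using this
  have h7 := toCo1_word hg three_cubes.1
  have h8 := toCo1_word hg three_cubes.2.1
  simp only [List.map_cons, List.map_nil, List.prod_cons, List.prod_nil, mul_one] at h7 h8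
  have hA3 : toCo1 (g 7) ^ 3 = 1 := by rw [pow_succ, pow_two, mul_assoc]; exact h7
  have hB3 : toCo1 (g 8) ^ 3 = 1 := by rw [pow_succ, pow_two, mul_assoc]; exact h8
  have hAi : (toCo1 (g 7))⁻¹ = toCo1 (g 7) * toCo1 (g 7) := inv_eq_of_mul_eq_one_right (by
    rw [← mul_assoc, ← pow_two, ← pow_succ]; exact hA3)
  have hBi : (toCo1 (g 8))⁻¹ = toCo1 (g 8) * toCo1 (g 8) := inv_eq_of_mul_eq_one_right (by
    rw [← mul_assoc, ← pow_two, ← pow_succ]; exact hB3)
  have hC : (threeCWord.map fun i => toCo1 (g i)).prod = ⁅toCo1 (g 7), toCo1 (g 8)⁆ := by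
    rw [commutatorElement_def, hAi, hBi]
    simp only [threeCWord, List.map_cons, List.map_nil, List.prod_cons, List.prod_nil, mul_one,
      mul_assoc]
  have hC3 := toCo1_word hg three_cubes.2.2
  rw [List.map_append, List.map_append, List.prod_append, List.prod_append, hC, List.map_nil,
    List.prod_nil] at hC3
  have hCA := toCo1_word hg three_comm.1
  rw [List.map_append, List.prod_append, List.map_cons, List.map_cons, List.prod_cons,
    List.prod_cons, hC, List.map_nil, List.prod_nil, mul_one] at hCA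
  have hCB := toCo1_word hg three_comm.2
  rw [List.map_append, List.prod_append, List.map_cons, List.map_cons, List.prod_cons,
    List.prod_cons, hC, List.map_nil, List.prod_nil, mul_one] at hCB
  have hTA := toCo1_word hg three_inv.1
  rw [List.map_append, List.map_append, List.prod_append, List.prod_append, hC] at hTA
  simp only [List.map_cons, List.map_nil, List.prod_cons, List.prod_nil, mul_one] at hTA
  have hTB := toCo1_word hg three_inv.2
  simp only [List.map_cons, List.map_nil, List.prod_cons, List.prod_nil, mul_one] at hTB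
  obtain ⟨X, hX, hX'⟩ := local_three_gen σ hσ hz N (toCo1 (g 6)) (toCo1 (g 7)) (toCo1 (g 8))
    (toCo1 (g 9)) (toCo1 (g 10)) (toCo1 (g 11)) (acts_of_actOK hg N hN three_act_u)
    (acts_of_actOK hg N hN three_act_a) (acts_of_actOK hg N hN three_act_b)
    (acts_of_actOK hg N hN three_act_t) (acts_of_actOK hg N hN three_act_g0)
    (acts_of_actOK hg N hN three_act_g1) hA3 hB3
    (by rw [pow_succ, pow_two]; exact hC3) hCA hCB
    (by rw [mul_inv_eq_iff_eq_mul, pow_one, hAi]; exact hTA)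
    (by rw [mul_inv_eq_iff_eq_mul, pow_zero, mul_one, hBi, mul_assoc]; exact hTB)
    (two (three_cent 0)) (two (three_cent 1)) (two (three_cent 2))
  exact ⟨X.comap σ, not_dvd_index_comap σ hσ (k := 9) (by norm_num) X hX (by norm_num), hX'⟩

end Cfsg.Agent.Schur.Co1Local
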