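import Mathlib.Data.Nat.Notation
import Mathlib.Data.Int.Notation

/-!
Matrices for a subgroup 3⁶ with part of the normaliser 3⁶:2M₁₂.
-/

set_option autoImplicit false

namespace Cfsg.Agent.Schur.Co1Local

/-- Basis, inverting element, Sylow generators, inverter. -/
noncomputable def threeRows : List (List (List ℤ)) :=
  [[[(-4),0,0,0,0,0,0,(-4),0,0,0,0,0,4,0,0,0,0,0,0,0,(-4),0,0],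
    [0,(-4),0,0,0,0,0,0,0,0,(-4),0,0,0,0,(-4),4,0,0,0,0,0,0,0],
    [0,0,(-4),0,(-4),4,0,0,0,0,0,0,0,0,(-4),0,0,0,0,0,0,0,0,0],
    [0,0,0,4,0,0,(-4),0,0,4,0,0,4,0,0,0,0,0,0,0,0,0,0,0],
    [0,0,4,0,4,4,0,0,0,0,0,0,0,0,(-4),0,0,0,0,0,0,0,0,0],
    [0,0,(-4),0,4,4,0,0,0,0,0,0,0,0,4,0,0,0,0,0,0,0,0,0],
    [0,0,0,(-4),0,0,4,0,0,4,0,0,4,0,0,0,0,0,0,0,0,0,0,0],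
    [4,0,0,0,0,0,0,4,0,0,0,0,0,4,0,0,0,0,0,0,0,(-4),0,0],
    [0,0,0,0,0,0,0,0,4,0,0,0,0,0,0,0,0,0,4,0,0,0,(-4),4],
    [0,0,0,4,0,0,4,0,0,4,0,0,(-4),0,0,0,0,0,0,0,0,0,0,0],
    [0,4,0,0,0,0,0,0,0,0,4,0,0,0,0,(-4),4,0,0,0,0,0,0,0],
    [0,0,0,0,0,0,0,0,0,0,0,(-4),0,0,0,0,0,(-4),0,4,(-4),0,0,0],
    [0,0,0,(-4),0,0,(-4),0,0,4,0,0,(-4),0,0,0,0,0,0,0,0,0,0,0],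
    [(-4),0,0,0,0,0,0,4,0,0,0,0,0,4,0,0,0,0,0,0,0,4,0,0],
    [0,0,4,0,(-4),4,0,0,0,0,0,0,0,0,4,0,0,0,0,0,0,0,0,0],
    [0,4,0,0,0,0,0,0,0,0,(-4),0,0,0,0,4,4,0,0,0,0,0,0,0],
    [0,(-4),0,0,0,0,0,0,0,0,4,0,0,0,0,4,4,0,0,0,0,0,0,0],
    [0,0,0,0,0,0,0,0,0,0,0,4,0,0,0,0,0,4,0,4,(-4),0,0,0],
    [0,0,0,0,0,0,0,0,4,0,0,0,0,0,0,0,0,0,4,0,0,0,4,(-4)],
    [0,0,0,0,0,0,0,0,0,0,0,(-4),0,0,0,0,0,4,0,4,4,0,0,0],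
    [0,0,0,0,0,0,0,0,0,0,0,4,0,0,0,0,0,(-4),0,4,4,0,0,0],
    [4,0,0,0,0,0,0,(-4),0,0,0,0,0,4,0,0,0,0,0,0,0,4,0,0],
    [0,0,0,0,0,0,0,0,4,0,0,0,0,0,0,0,0,0,(-4),0,0,0,(-4),(-4)],
    [0,0,0,0,0,0,0,0,4,0,0,0,0,0,0,0,0,0,(-4),0,0,0,4,4]],
   [[(-4),0,0,0,(-4),4,0,0,0,0,0,0,0,0,(-4),0,0,0,0,0,0,0,0,0],
    [0,(-4),0,0,0,0,0,0,0,0,0,4,(-4),0,0,0,0,0,0,0,0,0,(-4),0],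
    [0,0,(-4),0,0,0,0,(-4),0,0,0,0,0,4,0,0,0,0,0,0,0,(-4),0,0],
    [0,0,0,4,0,0,0,0,4,0,4,0,0,0,0,0,0,0,0,(-4),0,0,0,0],
    [4,0,0,0,4,4,0,0,0,0,0,0,0,0,(-4),0,0,0,0,0,0,0,0,0],
    [(-4),0,0,0,4,4,0,0,0,0,0,0,0,0,4,0,0,0,0,0,0,0,0,0],
    [0,0,0,0,0,0,4,0,0,0,0,0,0,0,0,4,0,4,(-4),0,0,0,0,0],
    [0,0,4,0,0,0,0,4,0,0,0,0,0,4,0,0,0,0,0,0,0,(-4),0,0],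
    [0,0,0,4,0,0,0,0,4,0,(-4),0,0,0,0,0,0,0,0,4,0,0,0,0],
    [0,0,0,0,0,0,0,0,0,4,0,0,0,0,0,0,4,0,0,0,(-4),0,0,4],
    [0,0,0,(-4),0,0,0,0,4,0,(-4),0,0,0,0,0,0,0,0,(-4),0,0,0,0],
    [0,(-4),0,0,0,0,0,0,0,0,0,4,4,0,0,0,0,0,0,0,0,0,4,0],
    [0,4,0,0,0,0,0,0,0,0,0,4,4,0,0,0,0,0,0,0,0,0,(-4),0],
    [0,0,(-4),0,0,0,0,4,0,0,0,0,0,4,0,0,0,0,0,0,0,4,0,0],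
    [4,0,0,0,(-4),4,0,0,0,0,0,0,0,0,4,0,0,0,0,0,0,0,0,0],
    [0,0,0,0,0,0,(-4),0,0,0,0,0,0,0,0,(-4),0,4,(-4),0,0,0,0,0],
    [0,0,0,0,0,0,0,0,0,(-4),0,0,0,0,0,0,(-4),0,0,0,(-4),0,0,4],
    [0,0,0,0,0,0,4,0,0,0,0,0,0,0,0,(-4),0,4,4,0,0,0,0,0],
    [0,0,0,0,0,0,(-4),0,0,0,0,0,0,0,0,4,0,4,4,0,0,0,0,0],
    [0,0,0,(-4),0,0,0,0,4,0,4,0,0,0,0,0,0,0,0,4,0,0,0,0],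
    [0,0,0,0,0,0,0,0,0,(-4),0,0,0,0,0,0,4,0,0,0,4,0,0,4],
    [0,0,4,0,0,0,0,(-4),0,0,0,0,0,4,0,0,0,0,0,0,0,4,0,0],
    [0,4,0,0,0,0,0,0,0,0,0,4,(-4),0,0,0,0,0,0,0,0,0,4,0],
    [0,0,0,0,0,0,0,0,0,4,0,0,0,0,0,0,(-4),0,0,0,4,0,0,4]],
   [[(-1),3,3,(-1),1,(-1),(-1),1,1,1,(-3),(-1),1,(-1),1,(-3),3,1,(-1),(-1),1,1,1,(-1)],
    [3,(-1),3,(-1),1,(-1),(-1),(-3),1,1,1,(-1),1,3,1,1,(-1),1,(-1),(-1),1,(-3),1,(-1)],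
    [3,3,(-1),(-1),1,(-1),(-1),1,1,1,1,3,(-3),(-1),1,1,(-1),1,(-1),(-1),1,1,(-3),(-1)],
    [(-1),(-1),(-1),3,1,(-1),(-1),1,1,1,1,(-1),1,3,1,1,3,(-3),(-1),(-1),1,1,(-3),(-1)],
    [(-1),(-1),(-1),(-1),5,3,(-1),1,1,1,1,(-1),1,(-1),(-3),1,(-1),1,(-1),(-1),1,1,1,(-1)],
    [1,1,1,1,3,5,1,(-1),(-1),(-1),(-1),1,(-1),1,3,(-1),1,(-1),1,1,(-1),(-1),(-1),1],
    [(-1),(-1),(-1),(-1),1,(-1),3,1,1,1,(-3),(-1),1,(-1),1,1,(-1),1,(-1),(-1),(-3),(-3),(-3),(-1)],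
    [(-1),3,(-1),(-1),1,(-1),3,1,1,1,1,(-1),1,3,1,1,(-1),1,(-1),3,1,1,1,3],
    [1,1,1,1,(-1),1,(-3),3,3,(-1),(-1),(-3),(-1),1,(-1),(-1),(-3),(-1),1,1,(-1),(-1),(-1),1],
    [1,1,1,1,(-1),1,1,3,(-1),3,(-1),1,(-1),1,(-1),3,1,(-1),1,(-3),(-1),(-1),3,1],
    [3,(-1),(-1),(-1),1,(-1),(-1),1,1,(-3),1,(-1),1,(-1),1,1,3,1,(-1),(-1),(-3),1,1,3],
    [1,1,(-3),(-3),(-1),1,(-3),(-1),(-1),3,(-1),1,3,1,(-1),(-1),1,(-1),1,1,(-1),(-1),(-1),1],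
    [(-1),(-1),3,(-1),1,(-1),(-1),1,(-3),1,1,(-1),1,(-1),1,1,(-1),1,3,(-1),1,1,(-3),3],
    [1,(-3),1,1,(-1),1,1,(-1),3,3,(-1),1,(-1),1,(-1),(-1),1,3,1,1,(-1),3,(-1),1],
    [(-1),(-1),(-1),(-1),(-3),3,(-1),1,1,1,1,(-1),1,(-1),5,1,(-1),1,(-1),(-1),1,1,1,(-1)],
    [3,(-1),(-1),3,1,(-1),(-1),1,(-3),1,(-3),(-1),1,(-1),1,1,(-1),1,(-1),3,1,1,1,(-1)],
    [(-3),1,1,1,(-1),1,(-3),(-1),(-1),(-1),(-1),1,(-1),1,(-1),3,1,3,(-3),1,(-1),(-1),(-1),1],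
    [1,1,1,1,(-1),1,1,3,(-1),(-1),3,1,3,1,(-1),(-1),1,3,1,1,(-1),(-1),(-1),(-3)],
    [(-1),(-1),(-1),(-1),1,(-1),(-1),1,1,(-3),(-3),3,1,3,1,1,(-1),1,3,(-1),1,1,1,(-1)],
    [(-1),(-1),(-1),(-1),1,(-1),(-1),1,1,1,1,(-1),(-3),(-1),1,1,3,1,3,3,1,(-3),1,(-1)],
    [1,1,1,1,(-1),1,1,(-1),3,(-1),(-1),1,3,(-3),(-1),3,1,(-1),1,1,3,(-1),(-1),1],
    [(-1),3,(-1),3,1,(-1),(-1),(-3),1,1,1,(-1),1,(-1),1,1,(-1),1,3,(-1),(-3),1,1,(-1)],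
    [(-1),(-1),3,(-1),1,(-1),(-1),1,1,1,1,3,1,(-1),1,1,(-1),(-3),(-1),3,(-3),1,1,(-1)],
    [(-1),(-1),(-1),3,1,(-1),(-1),1,1,1,1,3,1,(-1),1,(-3),(-1),1,(-1),(-1),1,(-3),1,3]],
   [[(-1),3,(-3),1,1,(-1),1,(-1),(-1),(-1),(-1),3,(-3),1,1,(-1),1,(-1),1,1,(-1),(-1),(-3),1],
    [3,(-1),(-3),1,(-3),3,1,(-1),(-1),(-1),(-1),(-1),1,1,(-3),(-1),1,(-1),1,1,(-1),(-1),1,1],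
    [(-3),(-3),(-1),(-1),(-1),1,(-1),1,1,1,(-3),1,(-1),(-1),(-1),(-3),3,1,(-1),(-1),1,1,(-1),(-1)],
    [1,1,(-1),3,(-1),(-3),(-1),1,1,1,1,(-3),(-1),(-1),(-1),1,3,1,3,(-1),1,1,(-1),(-1)],
    [(-1),3,1,1,1,3,(-3),(-1),3,(-1),(-1),(-1),1,1,1,(-1),1,(-1),1,1,3,(-1),1,1],
    [1,(-3),(-1),(-1),(-1),1,(-1),1,1,(-3),1,1,(-1),(-1),3,1,(-1),1,3,3,1,1,(-1),(-1)],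
    [1,1,(-1),(-1),(-1),1,3,1,1,1,(-3),(-3),(-1),(-1),3,1,(-1),1,(-1),(-1),1,1,(-1),3],
    [1,1,(-1),(-1),(-1),1,(-1),5,1,1,1,1,(-1),3,(-1),1,(-1),1,(-1),(-1),1,(-3),(-1),(-1)],
    [(-1),(-1),1,1,1,(-1),1,(-1),3,(-1),(-1),(-1),(-3),1,(-3),(-1),(-3),3,1,1,(-1),(-1),1,1],
    [(-1),(-1),1,1,(-3),(-1),1,(-1),3,3,(-1),3,1,1,1,3,1,(-1),1,1,(-1),(-1),1,1],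
    [1,1,3,(-1),(-1),1,(-1),1,1,(-3),1,1,(-1),(-1),(-1),1,3,1,(-1),(-1),(-3),1,(-1),3],
    [(-3),1,(-1),(-1),(-1),1,(-1),1,(-3),1,1,1,(-1),(-1),(-1),1,(-1),1,3,(-1),1,1,3,3],
    [3,(-1),1,1,1,(-1),1,(-1),(-1),(-1),(-1),3,1,1,1,(-1),1,3,1,(-3),3,(-1),1,1],
    [(-1),(-1),1,1,1,(-1),1,3,(-1),(-1),(-1),(-1),1,5,1,(-1),1,(-1),1,1,(-1),3,1,1],
    [(-1),3,1,(-3),(-3),(-1),1,(-1),(-1),(-1),(-1),(-1),1,1,1,(-1),1,3,1,1,(-1),(-1),1,(-3)],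
    [1,1,3,3,(-1),1,(-1),1,(-3),1,(-3),1,(-1),(-1),(-1),1,(-1),1,(-1),3,1,1,(-1),(-1)],
    [(-1),(-1),(-3),1,1,(-1),(-3),(-1),(-1),(-1),(-1),(-1),1,1,1,3,1,3,(-3),1,(-1),(-1),1,1],
    [(-1),(-1),1,1,1,3,1,(-1),(-1),3,3,(-1),1,1,1,(-1),1,3,1,1,(-1),(-1),(-3),1],
    [1,1,(-1),(-1),3,1,(-1),1,1,1,(-3),1,3,(-1),(-1),1,(-1),1,3,(-1),(-3),1,(-1),(-1)],
    [1,1,(-1),(-1),3,1,3,1,1,1,1,1,(-1),(-1),(-1),1,3,1,(-1),3,1,1,3,(-1)],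
    [(-1),(-1),1,(-3),1,(-1),1,(-1),(-1),(-1),(-1),(-1),1,1,(-3),3,1,(-1),1,1,3,(-1),(-3),1],
    [1,1,(-1),(-1),(-1),1,(-1),(-3),1,1,1,1,(-1),3,(-1),1,(-1),1,(-1),(-1),1,5,(-1),(-1)],
    [3,(-1),1,(-3),1,(-1),(-3),(-1),(-1),3,(-1),(-1),(-3),1,1,(-1),1,(-1),1,1,(-1),(-1),1,1],
    [1,1,(-1),(-1),(-1),(-3),(-1),1,1,1,1,1,3,(-1),(-1),(-3),(-1),1,(-1),3,1,1,(-1),3]],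
   [[(-1),(-3),(-3),(-1),1,(-1),(-1),(-1),1,1,1,(-3),3,1,1,1,(-1),1,(-1),(-1),1,(-1),3,(-1)],
    [(-3),(-1),3,1,3,(-3),1,1,(-1),(-1),(-1),(-1),1,(-1),3,(-1),1,(-1),1,1,(-1),1,1,1],
    [(-3),3,(-1),1,(-1),1,1,1,(-1),(-1),3,(-1),1,(-1),(-1),3,(-3),(-1),1,1,(-1),1,1,1],
    [(-1),1,1,3,1,3,(-1),(-1),1,1,1,(-3),(-1),1,1,1,3,1,3,(-1),1,(-1),(-1),(-1)],
    [(-1),(-3),1,(-1),1,3,3,(-1),(-3),1,1,1,(-1),1,1,1,(-1),1,(-1),(-1),(-3),(-1),(-1),(-1)],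
    [1,3,(-1),1,(-1),1,1,1,(-1),3,(-1),(-1),1,(-1),3,(-1),1,(-1),(-3),(-3),(-1),1,1,1],
    [(-1),1,1,(-1),1,(-1),3,(-1),1,1,(-3),(-3),(-1),1,(-3),1,(-1),1,(-1),(-1),1,(-1),(-1),3],
    [1,(-1),(-1),1,(-1),1,1,5,(-1),(-1),(-1),(-1),1,3,(-1),(-1),1,(-1),1,1,(-1),(-3),1,1],
    [1,(-1),(-1),1,(-1),1,1,1,3,(-1),(-1),(-1),(-3),(-1),3,(-1),(-3),3,1,1,(-1),1,1,1],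
    [1,(-1),(-1),1,3,1,1,1,3,3,(-1),3,1,(-1),(-1),3,1,(-1),1,1,(-1),1,1,1],
    [(-1),1,(-3),(-1),1,(-1),(-1),(-1),1,(-3),1,1,(-1),1,1,1,3,1,(-1),(-1),(-3),(-1),(-1),3],
    [3,1,1,(-1),1,(-1),(-1),(-1),(-3),1,1,1,(-1),1,1,1,(-1),1,3,(-1),1,(-1),3,3],
    [(-3),(-1),(-1),1,(-1),1,1,1,(-1),(-1),(-1),3,1,(-1),(-1),(-1),1,3,1,(-3),3,1,1,1],
    [(-1),1,1,(-1),1,(-1),(-1),3,1,1,1,1,(-1),5,1,1,(-1),1,(-1),(-1),1,3,(-1),(-1)],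
    [(-1),(-3),1,3,(-3),(-1),(-1),(-1),1,1,1,1,(-1),1,1,1,(-1),(-3),(-1),(-1),1,(-1),(-1),3],
    [(-1),1,(-3),3,1,(-1),(-1),(-1),(-3),1,(-3),1,(-1),1,1,1,(-1),1,(-1),3,1,(-1),(-1),(-1)],
    [1,(-1),3,1,(-1),1,(-3),1,(-1),(-1),(-1),(-1),1,(-1),(-1),3,1,3,(-3),1,(-1),1,1,1],
    [1,(-1),(-1),1,(-1),(-3),1,1,(-1),3,3,(-1),1,(-1),(-1),(-1),1,3,1,1,(-1),1,(-3),1],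
    [(-1),1,1,(-1),(-3),(-1),(-1),(-1),1,1,(-3),1,3,1,1,1,(-1),1,3,(-1),(-3),(-1),(-1),(-1)],
    [(-1),1,1,(-1),(-3),(-1),3,(-1),1,1,1,1,(-1),1,1,1,3,1,(-1),3,1,(-1),3,(-1)],
    [1,(-1),(-1),(-3),(-1),1,1,1,(-1),(-1),(-1),(-1),1,(-1),3,3,1,(-1),1,1,3,1,(-3),1],
    [1,(-1),(-1),1,(-1),1,1,(-3),(-1),(-1),(-1),(-1),1,3,(-1),(-1),1,(-1),1,1,(-1),5,1,1],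
    [(-3),(-1),(-1),(-3),(-1),1,(-3),1,(-1),3,(-1),(-1),(-3),(-1),(-1),(-1),1,(-1),1,1,(-1),1,1,1],
    [(-1),1,1,(-1),1,3,(-1),(-1),1,1,1,1,3,1,1,(-3),(-1),1,(-1),3,1,(-1),(-1),3]],
   [[(-1),(-3),3,1,1,(-1),1,1,(-1),(-1),3,1,(-1),(-1),1,3,(-3),(-1),1,1,(-1),1,(-1),1],
    [(-3),(-1),(-3),(-1),(-1),1,(-1),3,1,1,1,(-1),1,(-3),(-1),1,(-1),1,(-1),(-1),1,3,1,(-1)],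
    [3,(-3),(-1),1,1,(-1),1,1,(-1),(-1),(-1),(-3),3,(-1),1,(-1),1,(-1),1,1,(-1),1,3,1],
    [1,(-1),1,3,(-1),1,(-1),(-1),1,1,1,(-1),1,(-3),(-1),1,3,(-3),(-1),(-1),1,(-1),(-3),(-1)],
    [(-1),1,(-1),1,5,3,1,1,(-1),(-1),(-1),1,(-1),(-1),(-3),(-1),1,(-1),1,1,(-1),1,(-1),1],
    [1,(-1),1,(-1),3,5,(-1),(-1),1,1,1,(-1),1,1,3,1,(-1),1,(-1),(-1),1,(-1),1,(-1)],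
    [1,(-1),1,(-1),(-1),1,3,(-1),1,1,(-3),(-1),1,1,(-1),1,(-1),1,(-1),(-1),(-3),3,(-3),(-1)],
    [(-1),(-3),(-1),1,1,(-1),(-3),1,(-1),(-1),(-1),1,(-1),3,1,(-1),1,(-1),1,(-3),(-1),1,(-1),(-3)],
    [(-1),1,(-1),1,1,(-1),(-3),(-3),3,(-1),(-1),(-3),(-1),(-1),1,(-1),(-3),(-1),1,1,(-1),1,(-1),1],
    [(-1),1,(-1),1,1,(-1),1,(-3),(-1),3,(-1),1,(-1),(-1),1,3,1,(-1),1,(-3),(-1),1,3,1],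
    [(-3),(-1),1,(-1),(-1),1,(-1),(-1),1,(-3),1,(-1),1,1,(-1),1,3,1,(-1),(-1),(-3),(-1),1,3],
    [(-1),1,3,(-3),1,(-1),(-3),1,(-1),3,(-1),1,3,(-1),1,(-1),1,(-1),1,1,(-1),1,(-1),1],
    [1,(-1),(-3),(-1),(-1),1,(-1),(-1),(-3),1,1,(-1),1,1,(-1),1,(-1),1,3,(-1),1,(-1),(-3),3],
    [1,3,1,(-1),(-1),1,(-1),(-1),(-3),(-3),1,(-1),1,1,(-1),1,(-1),(-3),(-1),(-1),1,3,1,(-1)],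
    [(-1),1,(-1),1,(-3),3,1,1,(-1),(-1),(-1),1,(-1),(-1),5,(-1),1,(-1),1,1,(-1),1,(-1),1],
    [(-3),(-1),1,3,(-1),1,(-1),(-1),(-3),1,(-3),(-1),1,1,(-1),1,(-1),1,(-1),3,1,(-1),1,(-1)],
    [3,1,(-1),1,1,(-1),(-3),1,(-1),(-1),(-1),1,(-1),(-1),1,3,1,3,(-3),1,(-1),1,(-1),1],
    [(-1),1,(-1),1,1,(-1),1,(-3),(-1),(-1),3,1,3,(-1),1,(-1),1,3,1,1,(-1),1,(-1),(-3)],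
    [1,(-1),1,(-1),(-1),1,(-1),(-1),1,(-3),(-3),3,1,(-3),(-1),1,(-1),1,3,(-1),1,(-1),1,(-1)],
    [1,(-1),1,(-1),(-1),1,(-1),(-1),1,1,1,(-1),(-3),1,(-1),1,3,1,3,3,1,3,1,(-1)],
    [(-1),1,(-1),1,1,(-1),1,1,3,(-1),(-1),1,3,3,1,3,1,(-1),1,1,3,1,(-1),1],
    [(-1),(-3),(-1),(-3),1,(-1),1,(-3),(-1),(-1),(-1),1,(-1),(-1),1,(-1),1,(-1),(-3),1,3,1,(-1),1],
    [1,(-1),(-3),(-1),(-1),1,(-1),(-1),1,1,1,3,1,1,(-1),1,(-1),(-3),(-1),3,(-3),(-1),1,(-1)],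
    [1,(-1),1,3,(-1),1,(-1),(-1),1,1,1,3,1,1,(-1),(-3),(-1),1,(-1),(-1),1,3,1,3]],
   [[2,0,0,2,0,0,2,(-2),(-2),(-2),0,2,(-2),2,0,0,0,(-2),2,2,(-2),(-2),(-2),2],
    [0,2,(-6),0,(-2),2,0,0,0,0,(-2),0,0,0,(-2),(-2),2,0,0,0,0,0,0,0],
    [0,(-6),2,0,(-2),2,0,0,0,0,(-2),0,0,0,(-2),(-2),2,0,0,0,0,0,0,0],
    [2,0,0,2,0,0,2,2,(-2),2,0,(-2),2,(-2),0,0,0,2,(-2),2,(-2),(-2),(-2),(-2)],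
    [0,(-2),(-2),0,2,6,0,0,0,0,2,0,0,0,2,2,(-2),0,0,0,0,0,0,0],
    [0,2,2,0,6,2,0,0,0,0,(-2),0,0,0,(-2),(-2),2,0,0,0,0,0,0,0],
    [2,0,0,2,0,0,(-2),2,2,(-2),0,(-2),2,2,0,0,0,(-2),(-2),(-2),(-2),2,(-2),2],
    [(-2),0,0,2,0,0,2,(-2),2,2,0,(-2),2,2,0,0,0,2,2,2,(-2),2,2,2],
    [(-2),0,0,(-2),0,0,2,2,2,(-2),0,2,2,2,0,0,0,2,2,(-2),(-2),(-2),(-2),(-2)],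
    [(-2),0,0,2,0,0,(-2),2,(-2),2,0,2,(-2),2,0,0,0,2,(-2),(-2),(-2),(-2),2,2],
    [0,(-2),(-2),0,2,(-2),0,0,0,0,(-6),0,0,0,2,2,(-2),0,0,0,0,0,0,0],
    [2,0,0,(-2),0,0,(-2),(-2),2,2,0,2,2,2,0,0,0,(-2),(-2),2,(-2),(-2),2,(-2)],
    [(-2),0,0,2,0,0,2,2,2,(-2),0,2,(-2),(-2),0,0,0,(-2),(-2),2,(-2),2,2,(-2)],
    [2,0,0,(-2),0,0,2,2,2,2,0,2,(-2),2,0,0,0,2,(-2),2,2,2,(-2),2],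
    [0,(-2),(-2),0,2,(-2),0,0,0,0,2,0,0,0,(-6),2,(-2),0,0,0,0,0,0,0],
    [0,(-2),(-2),0,2,(-2),0,0,0,0,2,0,0,0,2,2,6,0,0,0,0,0,0,0],
    [0,2,2,0,(-2),2,0,0,0,0,(-2),0,0,0,(-2),6,2,0,0,0,0,0,0,0],
    [(-2),0,0,2,0,0,(-2),2,2,2,0,(-2),(-2),2,0,0,0,(-2),2,2,2,(-2),(-2),(-2)],
    [2,0,0,(-2),0,0,(-2),2,2,(-2),0,(-2),(-2),(-2),0,0,0,2,2,2,(-2),(-2),2,2],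
    [2,0,0,2,0,0,(-2),2,(-2),(-2),0,2,2,2,0,0,0,2,2,2,2,2,2,(-2)],
    [(-2),0,0,(-2),0,0,(-2),(-2),(-2),(-2),0,(-2),(-2),2,0,0,0,2,(-2),2,(-2),2,(-2),(-2)],
    [(-2),0,0,(-2),0,0,2,2,(-2),(-2),0,(-2),2,2,0,0,0,(-2),(-2),2,2,(-2),2,2],
    [(-2),0,0,(-2),0,0,(-2),2,(-2),2,0,2,2,(-2),0,0,0,(-2),2,2,(-2),2,(-2),2],
    [2,0,0,(-2),0,0,2,2,(-2),2,0,(-2),(-2),2,0,0,0,(-2),2,(-2),(-2),2,2,(-2)]],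
   [[2,2,(-2),2,0,2,2,2,2,0,0,2,2,0,2,0,0,(-2),(-2),2,0,(-2),0,2],
    [(-2),(-2),2,(-2),0,(-2),2,2,2,0,0,2,2,0,(-2),0,0,2,(-2),2,0,(-2),0,(-2)],
    [2,2,(-2),(-2),0,(-2),2,2,(-2),0,0,(-2),(-2),0,(-2),0,0,2,2,2,0,(-2),0,2],
    [0,0,0,0,2,0,0,0,0,(-2),(-2),0,0,(-2),0,2,2,0,0,4,(-2),4,2,0],
    [0,0,0,0,2,0,0,0,(-4),(-2),(-2),0,0,2,0,(-2),(-2),0,(-4),0,2,0,2,0],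
    [0,0,0,0,(-2),0,0,0,0,2,2,0,0,2,0,(-2),(-2),0,0,4,2,4,(-2),0],
    [2,(-2),(-2),(-2),0,(-2),2,2,(-2),0,0,2,2,0,2,0,0,(-2),2,(-2),0,2,0,(-2)],
    [(-2),2,2,(-2),0,(-2),(-2),(-2),(-2),0,0,2,2,0,2,0,0,(-2),2,2,0,(-2),0,2],
    [0,(-4),0,0,(-2),0,0,0,0,2,(-2),0,0,(-2),0,(-2),(-2),0,0,0,(-2),0,2,4],
    [0,0,0,(-4),(-2),4,0,0,0,2,(-2),0,0,2,0,2,2,0,0,0,2,0,2,0],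
    [0,0,0,0,2,0,0,0,0,2,(-2),0,0,(-2),(-4),2,(-2),(-4),0,0,2,0,(-2),0],
    [4,0,4,0,2,0,0,0,0,2,(-2),0,0,2,0,(-2),2,0,0,0,(-2),0,(-2),0],
    [4,0,4,0,(-2),0,0,0,0,(-2),2,0,0,(-2),0,2,(-2),0,0,0,2,0,2,0],
    [0,0,0,0,2,0,0,0,0,2,2,4,(-4),2,0,2,(-2),0,0,0,(-2),0,2,0],
    [0,0,0,0,2,0,4,(-4),0,2,2,0,0,(-2),0,(-2),2,0,0,0,2,0,2,0],
    [0,0,0,(-4),2,4,0,0,0,(-2),2,0,0,(-2),0,(-2),(-2),0,0,0,(-2),0,(-2),0],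
    [0,0,0,0,2,0,0,0,4,(-2),(-2),0,0,2,0,(-2),(-2),0,4,0,2,0,2,0],
    [0,0,0,0,2,0,(-4),4,0,2,2,0,0,(-2),0,(-2),2,0,0,0,2,0,2,0],
    [0,4,0,0,(-2),0,0,0,0,2,(-2),0,0,(-2),0,(-2),(-2),0,0,0,(-2),0,2,(-4)],
    [2,(-2),(-2),2,0,2,(-2),(-2),(-2),0,0,2,2,0,(-2),0,0,2,2,2,0,(-2),0,(-2)],
    [0,0,0,0,2,0,0,0,0,2,(-2),0,0,(-2),4,2,(-2),4,0,0,2,0,(-2),0],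
    [2,(-2),(-2),(-2),0,(-2),(-2),(-2),2,0,0,(-2),(-2),0,2,0,0,(-2),(-2),2,0,(-2),0,(-2)],
    [0,0,0,0,(-2),0,0,0,0,(-2),(-2),4,(-4),(-2),0,(-2),2,0,0,0,2,0,(-2),0],
    [2,2,(-2),(-2),0,(-2),(-2),(-2),2,0,0,2,2,0,(-2),0,0,2,(-2),(-2),0,2,0,2]],
   [[4,0,4,2,0,(-2),0,0,2,0,0,2,2,0,(-2),0,0,(-2),(-2),0,0,0,0,0],
    [4,0,4,(-2),0,2,0,0,(-2),0,0,(-2),(-2),0,2,0,0,2,2,0,0,0,0,0],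
    [0,4,0,(-2),0,2,0,0,2,0,0,2,2,0,2,0,0,2,(-2),0,0,0,0,(-4)],
    [0,0,0,2,0,(-2),0,0,(-2),0,0,2,2,0,2,0,0,2,2,4,0,(-4),0,0],
    [0,0,0,(-2),0,(-2),0,0,(-2),0,0,2,(-2),(-4),2,0,0,(-2),(-2),0,0,0,4,0],
    [0,0,0,(-2),0,2,(-4),(-4),(-2),0,0,2,2,0,(-2),0,0,(-2),2,0,0,0,0,0],
    [2,(-2),(-2),0,2,0,2,(-2),0,2,(-2),0,0,2,0,(-2),(-2),0,0,2,(-2),2,2,(-2)],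
    [2,(-2),(-2),0,2,0,(-2),2,0,(-2),2,0,0,2,0,2,(-2),0,0,(-2),2,(-2),2,(-2)],
    [2,2,(-2),0,2,0,2,(-2),0,2,2,0,0,(-2),0,(-2),(-2),0,0,(-2),2,(-2),(-2),2],
    [0,0,0,(-2),0,(-2),0,0,2,4,0,2,(-2),0,(-2),4,0,2,2,0,0,0,0,0],
    [0,0,0,(-2),0,(-2),0,0,(-2),0,4,(-2),2,0,(-2),0,0,2,(-2),0,(-4),0,0,0],
    [2,2,(-2),0,(-2),0,2,(-2),0,(-2),(-2),0,0,2,0,2,2,0,0,(-2),(-2),(-2),2,2],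
    [2,2,(-2),0,2,0,(-2),2,0,(-2),(-2),0,0,(-2),0,2,(-2),0,0,2,(-2),2,(-2),2],
    [0,0,0,(-2),0,(-2),0,0,(-2),0,0,2,(-2),4,2,0,0,(-2),(-2),0,0,0,(-4),0],
    [0,0,0,2,0,(-2),0,0,(-2),0,0,2,2,0,2,0,0,2,2,(-4),0,4,0,0],
    [0,0,0,2,0,2,0,0,(-2),4,0,(-2),2,0,2,4,0,(-2),(-2),0,0,0,0,0],
    [0,0,0,2,4,2,0,0,(-2),0,0,2,(-2),0,(-2),0,4,2,(-2),0,0,0,0,0],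
    [0,0,0,2,0,(-2),(-4),(-4),2,0,0,(-2),(-2),0,2,0,0,2,(-2),0,0,0,0,0],
    [(-2),(-2),2,0,2,0,2,(-2),0,(-2),(-2),0,0,(-2),0,2,(-2),0,0,(-2),(-2),(-2),(-2),(-2)],
    [2,(-2),(-2),0,(-2),0,2,(-2),0,(-2),2,0,0,(-2),0,2,2,0,0,2,2,2,(-2),(-2)],
    [0,0,0,(-2),0,(-2),0,0,(-2),0,(-4),(-2),2,0,(-2),0,0,2,(-2),0,4,0,0,0],
    [(-2),2,2,0,2,0,2,(-2),0,(-2),2,0,0,2,0,2,(-2),0,0,2,2,2,2,2],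
    [0,0,0,(-2),4,(-2),0,0,2,0,0,(-2),2,0,2,0,4,(-2),2,0,0,0,0,0],
    [0,(-4),0,(-2),0,2,0,0,2,0,0,2,2,0,2,0,0,2,(-2),0,0,0,0,4]],
   [[4,0,0,0,2,0,4,0,(-2),0,(-2),0,0,0,(-2),0,(-2),(-2),2,0,(-2),0,0,0],
    [0,(-4),4,0,(-2),0,0,0,2,0,(-2),0,0,0,2,0,(-2),(-2),2,0,2,0,0,0],
    [0,4,(-4),0,(-2),0,0,0,2,0,(-2),0,0,0,2,0,(-2),(-2),2,0,2,0,0,0],
    [0,0,0,0,(-2),0,0,0,(-2),0,2,0,4,(-4),2,0,2,(-2),2,0,(-2),0,0,0],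
    [0,0,0,4,(-2),0,0,0,(-2),4,2,0,0,0,(-2),0,(-2),(-2),(-2),0,2,0,0,0],
    [0,0,0,0,(-2),(-4),0,0,(-2),0,(-2),0,0,0,2,(-4),(-2),2,(-2),0,(-2),0,0,0],
    [0,0,0,0,(-2),0,0,0,2,0,(-2),0,0,0,(-2),0,2,(-2),(-2),4,(-2),0,0,4],
    [2,2,2,(-2),0,(-2),(-2),2,0,2,0,2,(-2),(-2),0,2,0,0,0,2,0,2,2,(-2)],
    [(-2),(-2),(-2),(-2),0,2,2,2,0,2,0,2,2,2,0,(-2),0,0,0,2,0,2,2,(-2)],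
    [(-2),(-2),(-2),(-2),0,(-2),2,(-2),0,2,0,2,(-2),(-2),0,2,0,0,0,(-2),0,(-2),2,2],
    [0,0,0,0,2,0,0,4,(-2),0,(-2),0,0,0,2,0,2,(-2),(-2),0,2,(-4),0,0],
    [0,0,0,0,2,0,0,0,2,0,2,4,0,0,2,0,(-2),(-2),(-2),0,(-2),0,(-4),0],
    [(-2),2,2,2,0,(-2),2,(-2),0,(-2),0,2,2,2,0,2,0,0,0,2,0,(-2),2,(-2)],
    [2,2,2,(-2),0,2,(-2),(-2),0,2,0,2,2,2,0,(-2),0,0,0,(-2),0,(-2),2,2],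
    [0,0,0,0,(-2),4,0,0,(-2),0,(-2),0,0,0,2,4,(-2),2,(-2),0,(-2),0,0,0],
    [0,0,0,4,2,0,0,0,2,4,(-2),0,0,0,2,0,2,2,2,0,(-2),0,0,0],
    [0,0,0,0,(-2),0,0,4,2,0,2,0,0,0,(-2),0,(-2),2,2,0,(-2),(-4),0,0],
    [(-4),0,0,0,2,0,(-4),0,(-2),0,(-2),0,0,0,(-2),0,(-2),(-2),2,0,(-2),0,0,0],
    [0,0,0,0,2,0,0,0,(-2),0,2,0,0,0,2,0,(-2),2,2,4,2,0,0,4],
    [2,(-2),(-2),2,0,2,(-2),(-2),0,(-2),0,2,(-2),(-2),0,(-2),0,0,0,2,0,(-2),2,(-2)],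
    [(-2),2,2,(-2),0,2,2,(-2),0,2,0,(-2),(-2),(-2),0,(-2),0,0,0,2,0,(-2),(-2),(-2)],
    [0,0,0,0,(-2),0,0,0,(-2),0,(-2),4,0,0,(-2),0,2,2,2,0,2,0,(-4),0],
    [2,(-2),(-2),(-2),0,(-2),(-2),(-2),0,2,0,(-2),2,2,0,2,0,0,0,2,0,(-2),(-2),(-2)],
    [0,0,0,0,(-2),0,0,0,(-2),0,2,0,(-4),4,2,0,2,(-2),2,0,(-2),0,0,0]]]

/-- Two elements for the pairing. -/
noncomputable def threePolyRows : List (List (List ℤ)) :=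
  [[[1,1,(-1),(-1),3,1,1,(-1),1,(-1),1,(-1),1,1,1,(-1),3,(-1),(-1),(-3),(-3),(-1),1,3],
    [1,1,(-1),3,3,1,1,(-1),(-3),3,(-3),(-1),1,1,1,(-1),(-1),(-1),(-1),1,1,(-1),1,(-1)],
    [1,1,(-1),(-1),(-1),(-3),1,(-1),1,(-1),(-3),(-1),1,1,1,3,3,(-1),3,1,1,(-1),1,(-1)],
    [(-1),(-1),1,1,(-3),3,3,1,(-1),1,(-1),(-3),(-1),(-1),(-1),1,1,1,1,(-1),(-1),(-3),(-1),1],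
    [(-3),1,(-1),(-1),(-1),(-3),1,(-1),1,3,1,(-1),1,1,(-3),(-1),(-1),(-1),(-1),(-3),1,(-1),1,(-1)],
    [(-1),3,(-3),1,(-3),(-1),(-1),1,(-1),1,(-1),1,(-1),(-1),3,1,1,1,(-3),(-1),(-1),1,(-1),1],
    [3,(-1),1,1,1,(-1),3,1,3,1,(-1),1,(-1),(-1),(-1),1,1,1,(-3),(-1),3,1,(-1),1],
    [1,1,3,(-1),(-1),1,(-3),(-1),1,3,1,(-1),1,1,1,(-1),3,(-1),(-1),1,1,(-1),(-3),(-1)],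
    [1,1,(-1),(-1),(-1),1,1,(-1),1,(-1),1,(-1),(-3),5,1,(-1),(-1),3,(-1),1,1,(-1),1,(-1)],
    [3,(-1),1,1,(-3),(-1),(-1),(-3),(-1),1,(-1),1,(-1),(-1),(-1),(-3),1,1,1,(-1),(-1),1,3,1],
    [1,(-3),(-1),(-1),(-1),1,(-3),3,1,(-1),(-3),(-1),1,1,1,(-1),(-1),(-1),(-1),(-3),1,(-1),1,(-1)],
    [1,1,(-1),(-1),(-1),1,1,3,1,3,1,3,1,1,1,(-1),(-1),(-1),3,1,1,(-1),1,3],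
    [(-1),(-1),1,1,1,(-1),(-1),1,(-1),1,(-1),1,3,3,(-1),1,1,5,1,(-1),(-1),1,(-1),1],
    [1,1,(-1),(-1),(-1),1,1,(-1),1,(-1),(-3),3,1,1,(-3),(-1),(-1),(-1),(-1),1,(-3),(-1),(-3),(-1)],
    [(-1),(-1),1,(-3),1,(-1),3,1,(-1),1,(-1),1,(-1),(-1),3,(-3),1,1,1,(-1),(-1),1,(-1),(-3)],
    [(-1),(-1),1,1,1,(-1),(-1),(-3),3,1,(-1),1,(-1),(-1),3,1,(-3),1,1,(-1),(-1),(-3),(-1),1],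
    [3,(-1),(-3),1,1,(-1),(-1),1,(-1),1,3,1,(-1),(-1),(-1),1,1,1,1,(-1),(-1),(-3),(-1),(-3)],
    [(-1),3,1,1,1,(-1),(-1),1,(-1),(-3),(-1),1,(-1),(-1),(-1),(-3),1,1,1,(-1),3,(-3),(-1),1],
    [(-1),(-1),(-3),(-3),1,3,(-1),(-3),(-1),1,(-1),1,(-1),(-1),(-1),1,1,1,1,(-1),3,1,(-1),1],
    [(-1),3,1,1,1,3,(-1),1,3,1,(-1),1,(-1),(-1),(-1),1,1,1,1,(-1),(-1),1,3,(-3)],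
    [1,1,(-1),(-1),(-1),1,1,(-1),1,(-1),1,(-1),5,(-3),1,(-1),(-1),3,(-1),1,1,(-1),1,(-1)],
    [(-3),(-3),(-1),3,(-1),1,1,(-1),1,(-1),1,3,1,1,1,(-1),3,(-1),(-1),1,1,(-1),1,(-1)],
    [(-1),(-1),1,(-3),1,(-1),(-1),1,(-1),1,(-1),1,(-1),(-1),(-1),1,1,1,(-3),3,(-1),(-3),3,1],
    [1,1,3,(-1),(-1),1,1,(-1),(-3),(-1),1,3,1,1,1,3,(-1),(-1),(-1),(-3),1,(-1),1,(-1)]],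
   [[2,(-2),0,(-2),0,0,0,(-2),(-2),0,2,2,2,4,0,2,(-2),0,0,0,2,0,0,2],
    [2,(-2),0,2,0,0,0,(-2),2,0,2,(-2),(-2),0,0,2,(-2),0,0,0,(-2),(-4),0,(-2)],
    [0,0,2,0,(-2),2,2,0,0,(-2),0,(-4),0,2,(-2),0,0,(-2),(-2),2,0,2,2,0],
    [(-2),(-2),0,(-2),0,(-4),0,2,2,0,(-2),(-2),(-2),0,0,2,(-2),0,0,0,2,0,0,2],
    [0,0,(-2),0,2,2,(-2),0,4,2,0,0,0,2,(-2),0,0,2,2,2,0,2,2,0],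
    [0,0,2,0,2,2,2,4,0,(-2),0,0,0,2,2,0,0,2,2,2,0,(-2),(-2),0],
    [0,0,(-2),0,2,(-2),2,0,0,(-2),0,0,0,2,2,0,0,2,(-2),(-2),(-4),2,2,0],
    [(-2),2,0,(-2),0,0,0,(-2),2,0,2,(-2),2,0,0,(-2),(-2),0,0,0,(-2),0,(-4),2],
    [0,0,(-2),0,2,2,2,0,0,(-2),0,0,0,(-2),(-2),0,0,(-2),2,(-2),0,(-2),2,4],
    [0,0,2,0,(-2),(-2),2,0,0,2,0,0,0,2,(-2),(-4),0,2,2,(-2),0,(-2),2,0],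
    [(-2),2,0,(-2),0,0,0,2,(-2),0,2,2,(-2),0,(-4),2,(-2),0,0,0,(-2),0,0,(-2)],
    [2,2,4,(-2),0,0,0,(-2),2,0,(-2),2,(-2),0,0,2,2,0,0,0,(-2),0,0,2],
    [2,2,0,(-2),0,0,0,2,2,0,2,(-2),2,0,0,2,2,0,0,(-4),2,0,0,(-2)],
    [2,(-2),0,(-2),0,0,0,2,2,0,(-2),2,2,0,0,(-2),(-2),(-4),0,0,(-2),0,0,(-2)],
    [0,0,(-2),(-4),(-2),2,2,0,0,2,0,0,0,(-2),2,0,0,2,(-2),2,0,(-2),2,0],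
    [(-4),0,2,0,2,2,(-2),0,0,2,0,0,0,2,2,0,0,(-2),(-2),(-2),0,(-2),2,0],
    [0,(-4),2,0,2,2,2,0,0,2,0,0,0,(-2),(-2),0,0,2,(-2),(-2),0,2,(-2),0],
    [0,0,2,0,(-2),2,(-2),0,0,(-2),0,0,0,(-2),2,0,(-4),2,2,(-2),0,2,2,0],
    [2,2,0,(-2),4,0,0,(-2),(-2),0,(-2),(-2),(-2),0,0,(-2),(-2),0,0,0,2,0,0,(-2)],
    [(-2),(-2),0,(-2),0,0,0,(-2),2,(-4),2,2,(-2),0,0,(-2),2,0,0,0,2,0,0,(-2)],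
    [0,0,2,0,2,(-2),(-2),0,0,(-2),0,0,4,(-2),(-2),0,0,2,(-2),2,0,(-2),2,0],
    [(-2),2,0,2,0,0,4,(-2),2,0,(-2),2,2,0,0,2,(-2),0,0,0,2,0,0,(-2)],
    [0,0,(-2),0,(-2),2,(-2),0,0,(-2),(-4),0,0,2,(-2),0,0,2,(-2),(-2),0,(-2),(-2),0],
    [2,2,0,2,0,0,0,2,2,0,2,2,(-2),0,0,(-2),(-2),0,(-4),0,2,0,0,2]]]

/-- Action matrix. -/
def threeA : List (List ℕ) := [[1, 1, 0, 1, 2, 2], [0, 0, 0, 0, 2, 0], [2, 1, 1, 2, 0, 2], [0, 0, 1, 0, 0, 0], [0, 1, 1, 1, 1, 1], [1, 0, 0, 0, 0, 0]]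

/-- Action matrix. -/
def threeB : List (List ℕ) := [[0, 2, 2, 2, 2, 2], [0, 1, 0, 0, 0, 0], [0, 0, 1, 0, 0, 0], [2, 0, 0, 0, 0, 0], [0, 0, 0, 0, 0, 2], [1, 2, 2, 1, 0, 1]]

/-- Action matrix. -/
def threeC : List (List ℕ) := [[0, 0, 0, 2, 0, 0], [1, 1, 0, 1, 2, 2], [0, 2, 0, 0, 0, 0], [0, 1, 1, 1, 1, 1], [0, 0, 0, 0, 0, 2], [1, 2, 2, 1, 0, 1]]

/-- Action matrix. -/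
def threeT : List (List ℕ) := [[2, 1, 1, 2, 0, 2], [0, 0, 1, 0, 0, 0], [1, 1, 0, 1, 2, 2], [0, 0, 0, 0, 2, 0], [0, 2, 2, 2, 2, 2], [2, 0, 0, 0, 0, 0]]

/-- Action matrix. -/
def threeA2 : List (List ℕ) := [[0, 0, 0, 0, 0, 1], [0, 2, 2, 2, 2, 2], [0, 0, 0, 1, 0, 0], [2, 1, 1, 2, 0, 2], [0, 2, 0, 0, 0, 0], [1, 1, 0, 1, 2, 2]]

/-- Action matrix. -/
def threeB2 : List (List ℕ) := [[0, 0, 0, 2, 0, 0], [0, 1, 0, 0, 0, 0], [0, 0, 1, 0, 0, 0], [0, 1, 1, 1, 1, 1], [2, 1, 1, 2, 0, 2], [0, 0, 0, 0, 2, 0]]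

/-- The twenty-seven products. -/
def threeTabs : List (List (List ℕ)) :=
  [[[1, 0, 0, 0, 0, 0], [0, 1, 0, 0, 0, 0], [0, 0, 1, 0, 0, 0], [0, 0, 0, 1, 0, 0], [0, 0, 0, 0, 1, 0], [0, 0, 0, 0, 0, 1]],
   [[0, 0, 0, 2, 0, 0], [1, 1, 0, 1, 2, 2], [0, 2, 0, 0, 0, 0], [0, 1, 1, 1, 1, 1], [0, 0, 0, 0, 0, 2], [1, 2, 2, 1, 0, 1]],
   [[0, 2, 2, 2, 2, 2], [0, 0, 2, 0, 0, 0], [2, 2, 0, 2, 1, 1], [2, 0, 0, 0, 0, 0], [2, 1, 1, 2, 0, 2], [0, 0, 0, 0, 2, 0]],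
   [[0, 2, 2, 2, 2, 2], [0, 1, 0, 0, 0, 0], [0, 0, 1, 0, 0, 0], [2, 0, 0, 0, 0, 0], [0, 0, 0, 0, 0, 2], [1, 2, 2, 1, 0, 1]],
   [[1, 0, 0, 0, 0, 0], [1, 1, 0, 1, 2, 2], [0, 2, 0, 0, 0, 0], [0, 0, 0, 1, 0, 0], [2, 1, 1, 2, 0, 2], [0, 0, 0, 0, 2, 0]],
   [[0, 0, 0, 2, 0, 0], [0, 0, 2, 0, 0, 0], [2, 2, 0, 2, 1, 1], [0, 1, 1, 1, 1, 1], [0, 0, 0, 0, 1, 0], [0, 0, 0, 0, 0, 1]],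
   [[0, 0, 0, 2, 0, 0], [0, 1, 0, 0, 0, 0], [0, 0, 1, 0, 0, 0], [0, 1, 1, 1, 1, 1], [2, 1, 1, 2, 0, 2], [0, 0, 0, 0, 2, 0]],
   [[0, 2, 2, 2, 2, 2], [1, 1, 0, 1, 2, 2], [0, 2, 0, 0, 0, 0], [2, 0, 0, 0, 0, 0], [0, 0, 0, 0, 1, 0], [0, 0, 0, 0, 0, 1]],
   [[1, 0, 0, 0, 0, 0], [0, 0, 2, 0, 0, 0], [2, 2, 0, 2, 1, 1], [0, 0, 0, 1, 0, 0], [0, 0, 0, 0, 0, 2], [1, 2, 2, 1, 0, 1]],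
   [[1, 1, 0, 1, 2, 2], [0, 0, 0, 0, 2, 0], [2, 1, 1, 2, 0, 2], [0, 0, 1, 0, 0, 0], [0, 1, 1, 1, 1, 1], [1, 0, 0, 0, 0, 0]],
   [[0, 0, 2, 0, 0, 0], [0, 0, 0, 0, 0, 1], [0, 0, 0, 0, 1, 0], [0, 2, 0, 0, 0, 0], [2, 0, 0, 0, 0, 0], [0, 0, 0, 2, 0, 0]],
   [[0, 1, 0, 0, 0, 0], [1, 2, 2, 1, 0, 1], [0, 0, 0, 0, 0, 2], [2, 2, 0, 2, 1, 1], [0, 0, 0, 1, 0, 0], [0, 2, 2, 2, 2, 2]],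
   [[1, 1, 0, 1, 2, 2], [0, 0, 0, 0, 0, 1], [0, 0, 0, 0, 1, 0], [0, 0, 1, 0, 0, 0], [0, 0, 0, 1, 0, 0], [0, 2, 2, 2, 2, 2]],
   [[0, 0, 2, 0, 0, 0], [1, 2, 2, 1, 0, 1], [0, 0, 0, 0, 0, 2], [0, 2, 0, 0, 0, 0], [0, 1, 1, 1, 1, 1], [1, 0, 0, 0, 0, 0]],
   [[0, 1, 0, 0, 0, 0], [0, 0, 0, 0, 2, 0], [2, 1, 1, 2, 0, 2], [2, 2, 0, 2, 1, 1], [2, 0, 0, 0, 0, 0], [0, 0, 0, 2, 0, 0]],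
   [[1, 1, 0, 1, 2, 2], [1, 2, 2, 1, 0, 1], [0, 0, 0, 0, 0, 2], [0, 0, 1, 0, 0, 0], [2, 0, 0, 0, 0, 0], [0, 0, 0, 2, 0, 0]],
   [[0, 0, 2, 0, 0, 0], [0, 0, 0, 0, 2, 0], [2, 1, 1, 2, 0, 2], [0, 2, 0, 0, 0, 0], [0, 0, 0, 1, 0, 0], [0, 2, 2, 2, 2, 2]],
   [[0, 1, 0, 0, 0, 0], [0, 0, 0, 0, 0, 1], [0, 0, 0, 0, 1, 0], [2, 2, 0, 2, 1, 1], [0, 1, 1, 1, 1, 1], [1, 0, 0, 0, 0, 0]],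
   [[0, 0, 0, 0, 0, 1], [0, 2, 2, 2, 2, 2], [0, 0, 0, 1, 0, 0], [2, 1, 1, 2, 0, 2], [0, 2, 0, 0, 0, 0], [1, 1, 0, 1, 2, 2]],
   [[1, 2, 2, 1, 0, 1], [1, 0, 0, 0, 0, 0], [0, 1, 1, 1, 1, 1], [0, 0, 0, 0, 1, 0], [2, 2, 0, 2, 1, 1], [0, 0, 2, 0, 0, 0]],
   [[0, 0, 0, 0, 2, 0], [0, 0, 0, 2, 0, 0], [2, 0, 0, 0, 0, 0], [0, 0, 0, 0, 0, 2], [0, 0, 1, 0, 0, 0], [0, 1, 0, 0, 0, 0]],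
   [[1, 2, 2, 1, 0, 1], [0, 0, 0, 2, 0, 0], [2, 0, 0, 0, 0, 0], [0, 0, 0, 0, 1, 0], [0, 2, 0, 0, 0, 0], [1, 1, 0, 1, 2, 2]],
   [[0, 0, 0, 0, 2, 0], [0, 2, 2, 2, 2, 2], [0, 0, 0, 1, 0, 0], [0, 0, 0, 0, 0, 2], [2, 2, 0, 2, 1, 1], [0, 0, 2, 0, 0, 0]],
   [[0, 0, 0, 0, 0, 1], [1, 0, 0, 0, 0, 0], [0, 1, 1, 1, 1, 1], [2, 1, 1, 2, 0, 2], [0, 0, 1, 0, 0, 0], [0, 1, 0, 0, 0, 0]],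
   [[0, 0, 0, 0, 2, 0], [1, 0, 0, 0, 0, 0], [0, 1, 1, 1, 1, 1], [0, 0, 0, 0, 0, 2], [0, 2, 0, 0, 0, 0], [1, 1, 0, 1, 2, 2]],
   [[0, 0, 0, 0, 0, 1], [0, 0, 0, 2, 0, 0], [2, 0, 0, 0, 0, 0], [2, 1, 1, 2, 0, 2], [2, 2, 0, 2, 1, 1], [0, 0, 2, 0, 0, 0]],
   [[1, 2, 2, 1, 0, 1], [0, 2, 2, 2, 2, 2], [0, 0, 0, 1, 0, 0], [0, 0, 0, 0, 1, 0], [0, 0, 1, 0, 0, 0], [0, 1, 0, 0, 0, 0]]]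

/-- Powers. -/
def threePoly0Pow : List (List (List ℕ)) :=
  [[[1, 0, 0, 0, 0, 0], [0, 1, 0, 0, 0, 0], [0, 0, 1, 0, 0, 0], [0, 0, 0, 1, 0, 0], [0, 0, 0, 0, 1, 0], [0, 0, 0, 0, 0, 1]],
   [[1, 0, 0, 0, 0, 0], [0, 0, 1, 0, 0, 0], [2, 0, 2, 1, 1, 2], [0, 0, 0, 0, 2, 0], [1, 1, 2, 2, 1, 0], [1, 1, 0, 1, 2, 2]],
   [[1, 0, 0, 0, 0, 0], [2, 0, 2, 1, 1, 2], [0, 0, 0, 0, 0, 2], [2, 2, 1, 1, 2, 0], [0, 1, 1, 1, 1, 1], [2, 1, 2, 0, 2, 1]],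
   [[1, 0, 0, 0, 0, 0], [0, 0, 0, 0, 0, 2], [2, 2, 0, 2, 1, 1], [0, 2, 2, 2, 2, 2], [1, 2, 2, 1, 0, 1], [0, 0, 0, 1, 0, 0]],
   [[1, 0, 0, 0, 0, 0], [2, 2, 0, 2, 1, 1], [1, 2, 1, 0, 1, 2], [2, 1, 1, 2, 0, 2], [0, 1, 0, 0, 0, 0], [0, 0, 0, 0, 2, 0]],
   [[1, 0, 0, 0, 0, 0], [1, 2, 1, 0, 1, 2], [0, 0, 0, 2, 0, 0], [0, 2, 0, 0, 0, 0], [0, 0, 1, 0, 0, 0], [2, 2, 1, 1, 2, 0]],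
   [[1, 0, 0, 0, 0, 0], [0, 0, 0, 2, 0, 0], [0, 0, 0, 0, 1, 0], [0, 0, 2, 0, 0, 0], [2, 0, 2, 1, 1, 2], [0, 2, 2, 2, 2, 2]]]

/-- Coefficients. -/
def threePoly0Coeff : List ℕ := [1, 2, 2, 2, 1, 0, 1]

/-- Reversed. -/
def threePoly0Rev : List (List ℕ) := [[0, 0, 0, 0, 0, 0], [2, 0, 1, 1, 2, 0], [0, 2, 0, 2, 2, 2], [0, 0, 0, 1, 0, 2], [1, 1, 0, 1, 0, 2], [0, 1, 0, 0, 0, 1]]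

/-- Multiplier. -/
def threePoly0Mul : List (List ℕ) := [[2, 0, 0, 2, 1, 2], [1, 0, 0, 0, 0, 1], [0, 1, 2, 0, 1, 1], [0, 0, 0, 1, 0, 0], [1, 0, 2, 2, 0, 2], [0, 0, 0, 0, 0, 0]]

/-- Powers. -/
def threePoly1Pow : List (List (List ℕ)) :=
  [[[1, 0, 0, 0, 0, 0], [0, 1, 0, 0, 0, 0], [0, 0, 1, 0, 0, 0], [0, 0, 0, 1, 0, 0], [0, 0, 0, 0, 1, 0], [0, 0, 0, 0, 0, 1]],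
   [[1, 1, 0, 1, 2, 2], [1, 2, 1, 0, 1, 2], [2, 0, 2, 1, 1, 2], [0, 0, 0, 0, 0, 2], [0, 0, 0, 0, 1, 0], [0, 1, 0, 0, 0, 0]],
   [[2, 2, 1, 1, 2, 0], [2, 1, 1, 2, 0, 2], [0, 1, 1, 1, 1, 1], [0, 2, 0, 0, 0, 0], [0, 0, 0, 0, 1, 0], [1, 2, 1, 0, 1, 2]],
   [[0, 0, 1, 0, 0, 0], [2, 0, 0, 0, 0, 0], [0, 0, 0, 1, 0, 0], [2, 1, 2, 0, 2, 1], [0, 0, 0, 0, 1, 0], [2, 1, 1, 2, 0, 2]],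
   [[2, 0, 2, 1, 1, 2], [2, 2, 0, 2, 1, 1], [0, 0, 0, 0, 0, 2], [1, 2, 2, 1, 0, 1], [0, 0, 0, 0, 1, 0], [2, 0, 0, 0, 0, 0]],
   [[0, 1, 1, 1, 1, 1], [1, 1, 2, 2, 1, 0], [0, 2, 0, 0, 0, 0], [1, 0, 0, 0, 0, 0], [0, 0, 0, 0, 1, 0], [2, 2, 0, 2, 1, 1]],
   [[0, 0, 0, 1, 0, 0], [0, 0, 2, 0, 0, 0], [2, 1, 2, 0, 2, 1], [1, 1, 0, 1, 2, 2], [0, 0, 0, 0, 1, 0], [1, 1, 2, 2, 1, 0]]]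

/-- Coefficients. -/
def threePoly1Coeff : List ℕ := [1, 2, 2, 2, 1, 0, 1]

/-- Reversed. -/
def threePoly1Rev : List (List ℕ) := [[1, 1, 0, 0, 0, 0], [0, 2, 1, 1, 1, 1], [2, 0, 1, 0, 0, 0], [0, 0, 2, 1, 0, 0], [0, 0, 0, 0, 0, 0], [2, 0, 2, 1, 1, 0]]

/-- Multiplier. -/
def threePoly1Mul : List (List ℕ) := [[1, 0, 0, 0, 0, 0], [0, 0, 0, 0, 0, 0], [0, 0, 0, 0, 0, 0], [0, 0, 0, 0, 0, 0], [0, 0, 0, 0, 0, 0], [0, 0, 0, 0, 0, 0]]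

end Cfsg.Agent.Schur.Co1Local
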