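import Cfsg.Agent.Lib.Schur.Co1Local.Setup
import Cfsg.Agent.Lib.Schur.Co1Local.ThreeData

/-!
The listed matrices at 3 and their actions.
-/

set_option autoImplicit false

namespace Cfsg.Agent.Schur.Co1Local

open Cfsg

/-- All the matrices at 3. -/
noncomputable def threeMs : List (List (List ℤ)) := threeRows ++ threePolyRows

/-- The first certificate. -/
def threeCert0 : PolyCert 3 6 where
  M := tblMat 3 6 (threePoly0Pow.getD 1 [])
  d := 6
  P i := tblMat 3 6 (threePoly0Pow.getD i [])
  f i := threePoly0Coeff.getD i 0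
  S := tblMat 3 6 threePoly0Rev
  X := tblMat 3 6 threePoly0Mul

/-- The second certificate. -/
def threeCert1 : PolyCert 3 6 where
  M := tblMat 3 6 (threePoly1Pow.getD 1 [])
  d := 6
  P i := tblMat 3 6 (threePoly1Pow.getD i [])
  f i := threePoly1Coeff.getD i 0
  S := tblMat 3 6 threePoly1Rev
  X := tblMat 3 6 threePoly1Mul

/-- The word for the commutator. -/
def threeCWord : List ℕ := [7, 8, 7, 7, 8, 8]

end Cfsg.Agent.Schur.Co1Local
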