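import Cfsg.Agent.Lib.Schur.Co1Local.ThreeBase

/-!
Kernel checks: the matrices at 3 lie in Co0.
-/

set_option autoImplicit false
set_option maxRecDepth 20000

namespace Cfsg.Agent.Schur.Co1Local

open Cfsg Cfsg.Agent.Leech

theorem three_matOK : threeMs.all matOK = true := by decide +kernel

end Cfsg.Agent.Schur.Co1Local
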