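import Cfsg.Agent.Lib.Leech.MatElt
import Cfsg.Agent.Lib.Leech.Simple
import Cfsg.Agent.Lib.Schur.FpfModule
import Cfsg.Prelude.Def_Spor_Conway

/-!
Checked word identities in `Co₁` between listed matrices, and coordinates on a subgroup generated by
listed commuting elements.
-/

set_option autoImplicit false

namespace Cfsg.Agent.Schur.Co1Local

open Cfsg Cfsg.Agent.Leech

/-- The projection onto `Co₁`. -/
abbrev toCo1 : Co0 →* Spor.Co1 := QuotientGroup.mk' (Subgroup.center Co0)

theorem toCo1_negElt : toCo1 negElt = 1 := (QuotientGroup.eq_one_iff _).2 negElt_mem_center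

/-- Listed matrices are realised by the elements. -/
def Realises (ms : List (List (List ℤ))) (g : ℕ → Co0) : Prop :=
  ∀ i < ms.length, RepM (ms.getD i []) (g i) ∧
    shapeM (ms.getD i []) = true ∧ shapeM (trM (ms.getD i [])) = true

theorem exists_realises {ms : List (List (List ℤ))} (h : ms.all matOK = true) :
    ∃ g, Realises ms g := by
  have : ∀ i, ∃ x : Co0, i < ms.length → RepM (ms.getD i []) x ∧
      shapeM (ms.getD i []) = true ∧ shapeM (trM (ms.getD i [])) = true := by
    intro i
    by_cases hi : i < ms.length
    · have hok := List.all_eq_true.1 h _ (List.getElem_mem hi)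
      obtain ⟨x, hx⟩ := exists_repM hok
      refine ⟨x, fun _ => ?_⟩
      rw [List.getD, List.getElem?_eq_getElem hi, Option.getD_some]
      exact ⟨hx, shapes_of_matOK hok⟩
    · exact ⟨1, fun h' => absurd h' hi⟩
  exact ⟨fun i => (this i).choose, fun i hi => (this i).choose_spec hi⟩

/-- The values of `8 e_∞`. -/
def startVec : List ℤ := (List.range 24).map fun k => if k == 23 then 8 else 0

theorem startVec_eq : coordsZ ((eight none : leechLattice) : GolayPt → ℤ) = startVec := by
  rw [eight_val]
  decide +kernel

theorem applyWord_eq {ms : List (List (List ℤ))} {g : ℕ → Co0} (hg : Realises ms g) :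
    ∀ w : List ℕ, (∀ i ∈ w, i < ms.length) → ∀ v : leechLattice,
      applyWord ms w (coordsZ (v : GolayPt → ℤ)) =
        coordsZ (((w.map g).prod • v : leechLattice) : GolayPt → ℤ)
  | [], _, v => by simp [applyWord]
  | i :: w, h, v => by
    obtain ⟨hr, hA, hT⟩ := hg i (h i List.mem_cons_self)
    have ih := applyWord_eq hg w (fun j hj => h j (List.mem_cons_of_mem _ hj)) v
    simp only [applyWord, List.foldr_cons] at ih ⊢
    rw [ih, hr.applyM_eq hA hT, List.map_cons, List.prod_cons, mul_smul]

theorem coordsZ_injective {v w : leechLattice}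
    (h : coordsZ (v : GolayPt → ℤ) = coordsZ (w : GolayPt → ℤ)) : v = w :=
  Subtype.ext (funext fun p => by rw [← coordsZ_getD (v : GolayPt → ℤ) p, h, coordsZ_getD])

theorem coordsZ_neg (v : leechLattice) :
    coordsZ ((-v : leechLattice) : GolayPt → ℤ) = (coordsZ (v : GolayPt → ℤ)).map Neg.neg := by
  simp [coordsZ, List.map_map, Function.comp_def]

/-- Two words agree up to sign. -/
def eqWordOK (ms : List (List (List ℤ))) (L R : List ℕ) : Bool :=
  (L ++ R).all (fun i => decide (i < ms.length)) &&
    (let a := applyWord ms L startVec; let b := applyWord ms R startVec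
     let c := applyWord ms L probeVals; let d := applyWord ms R probeVals
     (a == b && c == d) || (a == b.map Neg.neg && c == d.map Neg.neg))

theorem map_word_eq {ms : List (List (List ℤ))} {g : ℕ → Co0} (hg : Realises ms g) {L R : List ℕ}
    (h : eqWordOK ms L R = true) :
    (L.map fun i => toCo1 (g i)).prod = (R.map fun i => toCo1 (g i)).prod := by
  simp only [eqWordOK, Bool.and_eq_true, Bool.or_eq_true, beq_iff_eq, List.all_eq_true,
    decide_eq_true_eq, List.mem_append] at h
  obtain ⟨hlt, he⟩ := h
  have hprod : ∀ w : List ℕ, (w.map fun i => toCo1 (g i)).prod = toCo1 (w.map g).prod := fun w => by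
    rw [map_list_prod, List.map_map]; rfl
  rw [hprod, hprod]
  set x := (L.map g).prod
  set y := (R.map g).prod
  have eL := applyWord_eq hg L fun i hi => hlt i (Or.inl hi)
  have eR := applyWord_eq hg R fun i hi => hlt i (Or.inr hi)
  rw [← startVec_eq, ← probe_coords, eL, eL, eR, eR, ← coordsZ_neg, ← coordsZ_neg] at he
  rcases he with ⟨e1, e2⟩ | ⟨e1, e2⟩
  · have : y⁻¹ * x = 1 := eq_one_of_fixes
      (by rw [mul_smul, coordsZ_injective e1, inv_smul_smul])
      (by rw [mul_smul, coordsZ_injective e2, inv_smul_smul])
    rw [inv_mul_eq_one.1 this]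
  · have : (negElt * y)⁻¹ * x = 1 := eq_one_of_fixes
      (by rw [mul_smul, coordsZ_injective e1, ← negElt_smul, ← mul_smul negElt,
        inv_smul_smul])
      (by rw [mul_smul, coordsZ_injective e2, ← negElt_smul, ← mul_smul negElt,
        inv_smul_smul])
    rw [← inv_mul_eq_one.1 this, map_mul, toCo1_negElt, one_mul]

/-- An exponent word. -/
def wordV {r : ℕ} (col : Fin r → ℕ) : List ℕ :=
  (List.finRange r).flatMap fun j => List.replicate (col j) j.val

section Coordinates

variable {M : Type*} [Group M] {p r : ℕ} (E : ℕ → M)

/-- The product with the given coordinates. -/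
def coordProd (v : Fin r → ZMod p) : M := ((List.finRange r).map fun i => E i.val ^ (v i).val).prod

theorem prod_wordV (col : Fin r → ℕ) :
    ((wordV col).map E).prod = ((List.finRange r).map fun i => E i.val ^ col i).prod := by
  rw [wordV]
  generalize List.finRange r = l
  induction l with
  | nil => rfl
  | cons a l ih =>
    rw [List.flatMap_cons, List.map_append, List.prod_append, List.map_replicate,
      List.prod_replicate, ih, List.map_cons, List.prod_cons]

theorem coordProd_add [NeZero p] (hc : ∀ i j : Fin r, Commute (E i.val) (E j.val))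
    (hp : ∀ i : Fin r, E i.val ^ p = 1) (x y : Fin r → ZMod p) :
    coordProd E (x + y) = coordProd E x * coordProd E y := by
  unfold coordProd
  generalize List.finRange r = l
  induction l with
  | nil => simp
  | cons a l ih =>
    simp only [List.map_cons, List.prod_cons]
    rw [ih, Pi.add_apply, ZMod.val_add, ← pow_eq_pow_mod _ (hp a), pow_add]
    have hc' : Commute (E a.val ^ (y a).val) (l.map fun i => E i.val ^ (x i).val).prod :=
      Commute.list_prod_right _ _ fun z hz => by
        obtain ⟨i, -, rfl⟩ := List.mem_map.1 hz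
        exact (hc a i).pow_pow _ _
    simp only [mul_assoc]
    rw [← mul_assoc (E a.val ^ (y a).val), hc'.eq, mul_assoc]

theorem coordProd_single [Fact (1 < p)] (i : Fin r) :
    coordProd E (Pi.single i (1 : ZMod p)) = E i.val := by
  unfold coordProd
  have hnd : (List.finRange r).Nodup := List.nodup_finRange r
  have hmem : i ∈ List.finRange r := List.mem_finRange i
  generalize List.finRange r = l at hnd hmem
  induction l with
  | nil => simp at hmem
  | cons a l ih =>
    obtain ⟨ha, hl⟩ := List.nodup_cons.1 hnd
    rw [List.map_cons, List.prod_cons]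
    by_cases h : a = i
    · subst h
      rw [Pi.single_eq_same, ZMod.val_one, pow_one, List.prod_eq_one, mul_one]
      intro z hz
      obtain ⟨j, hj, rfl⟩ := List.mem_map.1 hz
      have hne : j ≠ a := fun e => by subst e; exact ha hj
      rw [Pi.single_eq_of_ne hne, ZMod.val_zero, pow_zero]
    · rw [Pi.single_eq_of_ne h, ZMod.val_zero, pow_zero, one_mul]
      exact ih hl ((List.mem_cons.1 hmem).resolve_left (Ne.symm h))

end Coordinates

/-- The images of a vector under the products, tagged by whether all exponents vanish. -/
def tagVals (p : ℕ) : List (List (List ℤ)) → List ℤ → List (Bool × List ℤ)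
  | [], x => [(true, x)]
  | e :: es, x => (tagVals p es x).flatMap fun by' =>
      (List.range p).map fun c => (by'.1 && c == 0, (applyM e)^[c] by'.2)

/-- Only the zero exponents fix `8 e_∞` up to sign. -/
def injOK (p : ℕ) (es : List (List (List ℤ))) : Bool :=
  (es.all fun e => shapeM e && shapeM (trM e)) && (tagVals p es startVec).all fun by' =>
    by'.1 || !(by'.2 == startVec || by'.2 == startVec.map Neg.neg)

theorem eq_zero_of_injOK {p r : ℕ} [NeZero p] {ms : List (List (List ℤ))} {g : ℕ → Co0}
    (hg : Realises ms g) (hr : r ≤ ms.length)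
    (h : injOK p ((List.finRange r).map fun i : Fin r => ms.getD i.val []) = true)
    (v : Fin r → ZMod p) (hv : coordProd (fun i => toCo1 (g i)) v = 1) : v = 0 := by
  simp only [injOK, Bool.and_eq_true, List.all_eq_true, Bool.or_eq_true] at h
  obtain ⟨hshape, hall⟩ := h
  have key : ∀ l : List (Fin r), (∀ i ∈ l, (shapeM (ms.getD i.val []) = true ∧ shapeM (trM (ms.getD i.val [])) = true)) →
      (l.all fun i => decide (v i = 0),
        coordsZ (((l.map fun i => g i.val ^ (v i).val).prod • eight none : leechLattice) :
          GolayPt → ℤ)) ∈ tagVals p (l.map fun i => ms.getD i.val []) startVec := by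
    intro l
    induction l with
    | nil =>
      intro _
      simp only [List.map_nil, List.prod_nil, one_smul, startVec_eq, tagVals, List.all_nil,
        List.mem_singleton]
    | cons a l ih =>
      intro hl
      simp only [List.map_cons, tagVals, List.mem_flatMap, List.mem_map, List.mem_range]
      refine ⟨_, ih (fun i hi => hl i (List.mem_cons_of_mem _ hi)), (v a).val, ZMod.val_lt _, ?_⟩
      refine Prod.ext ?_ ?_
      · simp only [List.all_cons]
        rw [Bool.and_comm]
        congr 1
        rcases eq_or_ne (v a) 0 with e | e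
        · simp [e]
        · simp [e]
      · show (applyM (ms.getD a.val []))^[(v a).val] _ = _
        rw [List.prod_cons, mul_smul]
        generalize (l.map fun i => g i.val ^ (v i).val).prod • eight none = w
        induction (v a).val with
        | zero => simp
        | succ k ihk =>
          rw [Function.iterate_succ_apply', ihk, pow_succ', mul_smul,
            (hg a.val (lt_of_lt_of_le a.isLt hr)).1.applyM_eq (hl a List.mem_cons_self).1 (hl a List.mem_cons_self).2]
  set w := ((List.finRange r).map fun i => g i.val ^ (v i).val).prod with hw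
  have hc : w ∈ Subgroup.center Co0 := by
    rw [← QuotientGroup.eq_one_iff, ← hv, coordProd, hw]
    show toCo1 _ = _
    rw [map_list_prod, List.map_map]
    simp [Function.comp_def]
  have hm := hall _ (key _ fun i hi => hshape _ (List.mem_map.2 ⟨i, hi, rfl⟩))
  rcases hm with hm | hm
  · funext i
    simp only [List.all_eq_true, decide_eq_true_eq] at hm
    exact hm i (List.mem_finRange i)
  · exfalso
    simp only [Bool.not_eq_eq_eq_not, Bool.not_true, Bool.or_eq_false_iff, beq_eq_false_iff_ne,
      ← hw] at hm
    rcases center_eq hc with e | e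
    · exact hm.1 (by rw [e, one_smul, startVec_eq])
    · refine hm.2 ?_
      rw [e, negElt_smul, ← startVec_eq]
      simp [coordsZ, List.map_map, Function.comp_def]

theorem dvd_card_sup_of_not_mem {G : Type*} [Group G] [Finite G] {p k : ℕ} [Fact p.Prime]
    {N : Subgroup G} (hN : Nat.card N = p ^ k) {H : Subgroup G} (hle : N ≤ H) (hH : IsPGroup p H)
    (hne : H ≠ N) : p ^ (k + 1) ∣ Nat.card H := by
  obtain ⟨m, hm⟩ := IsPGroup.iff_card.1 hH
  rw [hm]
  refine pow_dvd_pow p ?_
  have h1 := Subgroup.card_dvd_of_le hle
  rw [hN, hm] at h1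
  have h2 : k ≤ m := (Nat.pow_dvd_pow_iff_le_right (Fact.out : p.Prime).one_lt).1 h1
  rcases h2.lt_or_eq with h | h
  · omega
  · exact absurd (Subgroup.eq_of_le_of_card_ge hle (by rw [hm, hN, h])).symm hne

theorem card_co1 : Nat.card Spor.Co1 = 4157776806543360000 := by
  have h := Subgroup.card_eq_card_quotient_mul_card_subgroup (Subgroup.center Co0)
  rw [card_co0, card_center] at h
  show Nat.card (Co0 ⧸ Subgroup.center Co0) = _
  omega

theorem not_dvd_index_comap {Γ : Type*} [Group Γ] (σ : Γ →* Spor.Co1) (hσ : Function.Surjective σ)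
    {p k : ℕ} (hp : p.Prime) (X : Subgroup Spor.Co1) (hX : p ^ k ∣ Nat.card X)
    (hmax : ¬ p ^ (k + 1) ∣ 4157776806543360000) : ¬ p ∣ (X.comap σ).index := by
  rw [Subgroup.index_comap_of_surjective _ hσ]
  intro h
  refine hmax ?_
  rw [← card_co1, ← X.card_mul_index, pow_succ]
  exact Nat.mul_dvd_mul hX h

end Cfsg.Agent.Schur.Co1Local
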