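import Mathlib.Data.Nat.Notation

/-!
Tables for 2¹¹:M₂₄: actions on code words modulo the all-one word.
-/

set_option autoImplicit false

namespace Cfsg.Agent.Schur.Co1Local

/-- List. -/
def twoBasis : List ℕ := [4845570, 2422785, 7221256, 3610628, 7903248, 5621792, 2019456, 4038912, 8077824, 1009728, 5405696]

/-- List. -/
def twoPiv : List ℕ := [1, 0, 3, 2, 4, 5, 7, 8, 9, 6, 10]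

/-- Table. -/
def twoU : List (List ℕ) := [[0, 1, 0, 0, 0, 0, 0, 0, 0, 0, 0],
  [1, 0, 1, 0, 1, 1, 0, 0, 1, 0, 1],
  [0, 0, 0, 1, 0, 0, 0, 0, 0, 0, 0],
  [1, 0, 0, 0, 0, 0, 0, 0, 0, 0, 0],
  [0, 0, 1, 0, 0, 0, 0, 0, 0, 0, 0],
  [0, 0, 0, 0, 1, 0, 0, 0, 0, 0, 0],
  [0, 0, 0, 0, 0, 0, 0, 0, 0, 1, 0],
  [0, 0, 0, 0, 0, 0, 1, 0, 0, 0, 0],
  [0, 0, 0, 0, 0, 0, 0, 1, 0, 0, 0],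
  [0, 0, 0, 0, 0, 1, 0, 0, 0, 0, 0],
  [0, 0, 0, 0, 0, 0, 0, 0, 1, 0, 0]]

/-- List. -/
def twoUSign : List ℕ := [0, 0, 0, 0, 0, 0, 0, 0, 0, 0, 0]

/-- Table. -/
def twoH : List (List ℕ) := [[1, 1, 1, 1, 1, 0, 1, 0, 0, 0, 1],
  [0, 1, 0, 0, 0, 0, 0, 0, 0, 0, 0],
  [1, 1, 1, 0, 0, 0, 0, 1, 0, 1, 1],
  [1, 0, 0, 0, 0, 0, 0, 0, 0, 0, 0],
  [0, 0, 0, 1, 0, 0, 0, 0, 0, 0, 0],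
  [1, 1, 0, 0, 0, 1, 1, 0, 1, 1, 1],
  [1, 1, 0, 0, 1, 1, 1, 1, 0, 0, 0],
  [0, 0, 0, 0, 1, 0, 0, 0, 0, 0, 0],
  [1, 0, 0, 1, 0, 1, 0, 1, 1, 1, 0],
  [0, 0, 1, 0, 0, 0, 0, 0, 0, 0, 0],
  [0, 0, 0, 0, 0, 1, 0, 0, 0, 0, 0]]

/-- List. -/
def twoHSign : List ℕ := [0, 0, 0, 0, 0, 0, 0, 0, 0, 0, 0]

/-- Table. -/
def twoG : List (List ℕ) := [[1, 1, 1, 0, 1, 0, 1, 1, 1, 1, 0],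
  [0, 1, 0, 0, 0, 0, 0, 0, 0, 0, 0],
  [1, 0, 0, 0, 1, 1, 1, 1, 0, 0, 0],
  [0, 1, 1, 1, 0, 0, 1, 0, 1, 1, 1],
  [1, 0, 0, 0, 0, 1, 1, 0, 1, 1, 1],
  [1, 0, 1, 0, 0, 0, 0, 1, 0, 1, 1],
  [1, 1, 0, 1, 0, 1, 0, 1, 1, 1, 0],
  [0, 0, 1, 1, 1, 0, 0, 1, 1, 0, 0],
  [0, 1, 0, 0, 0, 0, 1, 0, 0, 0, 0],
  [0, 0, 0, 1, 1, 1, 0, 0, 0, 1, 1],
  [0, 1, 0, 0, 0, 0, 0, 1, 0, 0, 0]]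

/-- List. -/
def twoGSign : List ℕ := [0, 1, 0, 0, 0, 0, 0, 0, 0, 0, 0]

/-- Tables. -/
def twoUPow : List (List (List ℕ)) :=
  [[[1,0,0,0,0,0,0,0,0,0,0], [0,1,0,0,0,0,0,0,0,0,0], [0,0,1,0,0,0,0,0,0,0,0], [0,0,0,1,0,0,0,0,0,0,0], [0,0,0,0,1,0,0,0,0,0,0], [0,0,0,0,0,1,0,0,0,0,0], [0,0,0,0,0,0,1,0,0,0,0], [0,0,0,0,0,0,0,1,0,0,0], [0,0,0,0,0,0,0,0,1,0,0], [0,0,0,0,0,0,0,0,0,1,0], [0,0,0,0,0,0,0,0,0,0,1]],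
   [[0,1,0,0,0,0,0,0,0,0,0], [1,0,1,0,1,1,0,0,1,0,1], [0,0,0,1,0,0,0,0,0,0,0], [1,0,0,0,0,0,0,0,0,0,0], [0,0,1,0,0,0,0,0,0,0,0], [0,0,0,0,1,0,0,0,0,0,0], [0,0,0,0,0,0,0,0,0,1,0], [0,0,0,0,0,0,1,0,0,0,0], [0,0,0,0,0,0,0,1,0,0,0], [0,0,0,0,0,1,0,0,0,0,0], [0,0,0,0,0,0,0,0,1,0,0]],
   [[1,0,1,0,1,1,0,0,1,0,1], [0,1,1,1,1,0,0,1,1,0,0], [1,0,0,0,0,0,0,0,0,0,0], [0,1,0,0,0,0,0,0,0,0,0], [0,0,0,1,0,0,0,0,0,0,0], [0,0,1,0,0,0,0,0,0,0,0], [0,0,0,0,0,1,0,0,0,0,0], [0,0,0,0,0,0,0,0,0,1,0], [0,0,0,0,0,0,1,0,0,0,0], [0,0,0,0,1,0,0,0,0,0,0], [0,0,0,0,0,0,0,1,0,0,0]],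
   [[0,1,1,1,1,0,0,1,1,0,0], [0,0,0,1,1,1,1,1,1,0,1], [0,1,0,0,0,0,0,0,0,0,0], [1,0,1,0,1,1,0,0,1,0,1], [1,0,0,0,0,0,0,0,0,0,0], [0,0,0,1,0,0,0,0,0,0,0], [0,0,0,0,1,0,0,0,0,0,0], [0,0,0,0,0,1,0,0,0,0,0], [0,0,0,0,0,0,0,0,0,1,0], [0,0,1,0,0,0,0,0,0,0,0], [0,0,0,0,0,0,1,0,0,0,0]],
   [[0,0,0,1,1,1,1,1,1,0,1], [1,0,1,0,1,0,1,1,1,1,0], [1,0,1,0,1,1,0,0,1,0,1], [0,1,1,1,1,0,0,1,1,0,0], [0,1,0,0,0,0,0,0,0,0,0], [1,0,0,0,0,0,0,0,0,0,0], [0,0,1,0,0,0,0,0,0,0,0], [0,0,0,0,1,0,0,0,0,0,0], [0,0,0,0,0,1,0,0,0,0,0], [0,0,0,1,0,0,0,0,0,0,0], [0,0,0,0,0,0,0,0,0,1,0]],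
   [[1,0,1,0,1,0,1,1,1,1,0], [0,1,1,1,0,1,1,1,0,1,0], [0,1,1,1,1,0,0,1,1,0,0], [0,0,0,1,1,1,1,1,1,0,1], [1,0,1,0,1,1,0,0,1,0,1], [0,1,0,0,0,0,0,0,0,0,0], [0,0,0,1,0,0,0,0,0,0,0], [0,0,1,0,0,0,0,0,0,0,0], [0,0,0,0,1,0,0,0,0,0,0], [1,0,0,0,0,0,0,0,0,0,0], [0,0,0,0,0,1,0,0,0,0,0]],
   [[0,1,1,1,0,1,1,1,0,1,0], [0,0,1,1,0,0,1,0,1,1,1], [0,0,0,1,1,1,1,1,1,0,1], [1,0,1,0,1,0,1,1,1,1,0], [0,1,1,1,1,0,0,1,1,0,0], [1,0,1,0,1,1,0,0,1,0,1], [1,0,0,0,0,0,0,0,0,0,0], [0,0,0,1,0,0,0,0,0,0,0], [0,0,1,0,0,0,0,0,0,0,0], [0,1,0,0,0,0,0,0,0,0,0], [0,0,0,0,1,0,0,0,0,0,0]],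
   [[0,0,1,1,0,0,1,0,1,1,1], [1,0,0,1,0,1,0,1,1,1,0], [1,0,1,0,1,0,1,1,1,1,0], [0,1,1,1,0,1,1,1,0,1,0], [0,0,0,1,1,1,1,1,1,0,1], [0,1,1,1,1,0,0,1,1,0,0], [0,1,0,0,0,0,0,0,0,0,0], [1,0,0,0,0,0,0,0,0,0,0], [0,0,0,1,0,0,0,0,0,0,0], [1,0,1,0,1,1,0,0,1,0,1], [0,0,1,0,0,0,0,0,0,0,0]],
   [[1,0,0,1,0,1,0,1,1,1,0], [1,1,0,0,1,1,1,1,0,0,0], [0,1,1,1,0,1,1,1,0,1,0], [0,0,1,1,0,0,1,0,1,1,1], [1,0,1,0,1,0,1,1,1,1,0], [0,0,0,1,1,1,1,1,1,0,1], [1,0,1,0,1,1,0,0,1,0,1], [0,1,0,0,0,0,0,0,0,0,0], [1,0,0,0,0,0,0,0,0,0,0], [0,1,1,1,1,0,0,1,1,0,0], [0,0,0,1,0,0,0,0,0,0,0]],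
   [[1,1,0,0,1,1,1,1,0,0,0], [1,1,0,0,0,1,1,0,1,1,1], [0,0,1,1,0,0,1,0,1,1,1], [1,0,0,1,0,1,0,1,1,1,0], [0,1,1,1,0,1,1,1,0,1,0], [1,0,1,0,1,0,1,1,1,1,0], [0,1,1,1,1,0,0,1,1,0,0], [1,0,1,0,1,1,0,0,1,0,1], [0,1,0,0,0,0,0,0,0,0,0], [0,0,0,1,1,1,1,1,1,0,1], [1,0,0,0,0,0,0,0,0,0,0]],
   [[1,1,0,0,0,1,1,0,1,1,1], [1,1,1,0,0,0,0,1,0,1,1], [1,0,0,1,0,1,0,1,1,1,0], [1,1,0,0,1,1,1,1,0,0,0], [0,0,1,1,0,0,1,0,1,1,1], [0,1,1,1,0,1,1,1,0,1,0], [0,0,0,1,1,1,1,1,1,0,1], [0,1,1,1,1,0,0,1,1,0,0], [1,0,1,0,1,1,0,0,1,0,1], [1,0,1,0,1,0,1,1,1,1,0], [0,1,0,0,0,0,0,0,0,0,0]],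
   [[1,1,1,0,0,0,0,1,0,1,1], [1,1,1,1,1,0,1,0,0,0,1], [1,1,0,0,1,1,1,1,0,0,0], [1,1,0,0,0,1,1,0,1,1,1], [1,0,0,1,0,1,0,1,1,1,0], [0,0,1,1,0,0,1,0,1,1,1], [1,0,1,0,1,0,1,1,1,1,0], [0,0,0,1,1,1,1,1,1,0,1], [0,1,1,1,1,0,0,1,1,0,0], [0,1,1,1,0,1,1,1,0,1,0], [1,0,1,0,1,1,0,0,1,0,1]]]

/-- List. -/
def twoUCoeff : List ℕ := [1, 1, 0, 0, 0, 1, 1, 1, 0, 1, 0, 1]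

/-- Table. -/
def twoURev : List (List ℕ) := [[1, 1, 0, 0, 1, 0, 0, 0, 0, 0, 0],
  [1, 1, 0, 0, 1, 1, 0, 0, 1, 0, 1],
  [0, 0, 1, 1, 0, 0, 0, 0, 0, 1, 0],
  [1, 0, 0, 1, 0, 1, 0, 0, 0, 0, 0],
  [0, 0, 1, 0, 1, 0, 1, 0, 0, 0, 0],
  [0, 0, 0, 0, 1, 1, 0, 1, 0, 0, 0],
  [0, 0, 0, 0, 0, 0, 1, 0, 0, 1, 1],
  [0, 1, 0, 1, 1, 1, 1, 1, 0, 1, 1],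
  [1, 1, 1, 1, 1, 0, 1, 1, 1, 0, 1],
  [0, 0, 0, 0, 0, 1, 0, 0, 1, 1, 0],
  [1, 1, 1, 0, 0, 0, 0, 1, 1, 1, 0]]

/-- Table. -/
def twoUMul : List (List ℕ) := [[1, 0, 0, 0, 0, 1, 0, 1, 1, 0, 1],
  [0, 1, 0, 0, 1, 0, 1, 1, 1, 0, 0],
  [1, 0, 0, 0, 0, 1, 0, 0, 0, 1, 1],
  [0, 1, 0, 0, 1, 1, 0, 0, 1, 0, 0],
  [0, 1, 0, 0, 1, 1, 1, 0, 0, 0, 1],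
  [1, 1, 0, 1, 1, 0, 0, 1, 0, 0, 1],
  [1, 1, 0, 0, 0, 0, 1, 0, 0, 1, 0],
  [1, 0, 0, 1, 0, 0, 1, 1, 0, 0, 0],
  [0, 0, 1, 1, 0, 0, 0, 1, 1, 0, 0],
  [1, 1, 1, 0, 1, 0, 0, 0, 1, 1, 1],
  [0, 0, 1, 0, 1, 0, 0, 0, 1, 0, 1]]

/-- Table. -/
def twoUInv : List (List ℕ) := [[1, 1, 1, 1, 0, 1, 0, 0, 0, 0, 1],
  [0, 1, 1, 1, 0, 1, 0, 0, 0, 0, 1],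
  [1, 1, 0, 0, 0, 1, 0, 0, 0, 0, 1],
  [1, 1, 1, 0, 0, 1, 0, 0, 0, 0, 1],
  [1, 1, 0, 0, 1, 1, 0, 0, 0, 0, 1],
  [1, 1, 0, 0, 1, 0, 0, 0, 0, 0, 1],
  [1, 1, 0, 0, 1, 0, 1, 0, 0, 1, 1],
  [1, 1, 0, 0, 1, 0, 1, 1, 0, 1, 1],
  [1, 1, 0, 0, 1, 0, 1, 1, 1, 1, 1],
  [1, 1, 0, 0, 1, 0, 0, 0, 0, 1, 1],
  [1, 1, 0, 0, 1, 0, 1, 1, 1, 1, 0]]

/-- Table. -/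
def twoHSplit : List (List ℕ) := [[0, 0, 1, 1, 1, 0, 1, 0, 0, 0, 1],
  [0, 0, 0, 0, 1, 0, 1, 0, 1, 0, 0],
  [0, 0, 0, 0, 0, 0, 0, 0, 0, 1, 0],
  [0, 0, 1, 0, 1, 0, 1, 0, 0, 0, 1],
  [0, 0, 1, 0, 0, 0, 1, 0, 0, 0, 1],
  [0, 0, 1, 1, 0, 0, 1, 1, 1, 0, 1],
  [1, 0, 1, 1, 0, 0, 0, 1, 0, 1, 0],
  [0, 0, 1, 0, 0, 0, 1, 1, 0, 0, 1],
  [1, 0, 1, 1, 0, 1, 1, 0, 0, 1, 1],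
  [0, 0, 0, 0, 0, 0, 0, 0, 0, 0, 0],
  [0, 0, 1, 1, 0, 0, 1, 1, 1, 0, 0]]

/-- List. -/
def twoHPart : List ℕ := [0, 1, 0, 0, 0, 0, 0, 0, 0, 0, 0]

/-- The coordinate outside the moved part. -/
def twoHOut : ℕ := 1

end Cfsg.Agent.Schur.Co1Local
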