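import Cfsg.Agent.Lib.Schur.Co1Local.Tools
import Cfsg.Agent.Lib.Schur.Co1Local.TwoData
import Cfsg.Agent.Lib.Mathieu.Generators
import Cfsg.Agent.Lib.Schur.Basic
import Cfsg.Agent.S2038

/-!
At 2 a central extension of `Co₁` meets the derived group of the preimage of `2¹¹:M₂₄` in at most
two elements: the only freedom is the value of one derivation on one coordinate.
-/

set_option autoImplicit false
set_option maxRecDepth 20000

namespace Cfsg.Agent.Schur.Co1Local

open Cfsg Cfsg.Agent.Leech Subgroup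
open scoped commutatorElement IsMulCommutative

/-! ### Permutations -/

/-- Doubling of the residues. -/
def twoUnit : (ZMod 23)ˣ := ⟨2, 12, by decide, by decide⟩

/-- The translation. -/
def tElt : M24 :=
  ⟨Equiv.optionCongr (Equiv.addRight (1 : ZMod 23)), Mathieu.translation_mem⟩

/-- Multiplication by two. -/
def hElt : M24 :=
  ⟨Equiv.optionCongr (Units.mulLeft twoUnit),
    Mathieu.optionCongr_mulLeft_mem twoUnit
      ⟨⟨5, 14, by decide, by decide⟩, Units.ext (by decide)⟩⟩

/-- The cubing map after inversion. -/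
noncomputable def gElt : M24 :=
  ⟨cubeTwist, Mathieu.cubeTwist_mem⟩ * ⟨projInv, Mathieu.projInv_mem⟩

theorem perm_identities :
    ((gElt : Equiv.Perm GolayPt) * (hElt : Equiv.Perm GolayPt) =
      (hElt : Equiv.Perm GolayPt) ^ 8 * (gElt : Equiv.Perm GolayPt)) ∧
    ((hElt : Equiv.Perm GolayPt) * (tElt : Equiv.Perm GolayPt) =
      (tElt : Equiv.Perm GolayPt) ^ 2 * (hElt : Equiv.Perm GolayPt)) ∧
    (gElt : Equiv.Perm GolayPt) ^ 5 = projInv ∧ (gElt : Equiv.Perm GolayPt) ^ 6 = cubeTwist := by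
  have key : (∀ p, ((gElt : Equiv.Perm GolayPt) * (hElt : Equiv.Perm GolayPt)) p =
        ((hElt : Equiv.Perm GolayPt) ^ 8 * (gElt : Equiv.Perm GolayPt)) p) ∧
      (∀ p, ((hElt : Equiv.Perm GolayPt) * (tElt : Equiv.Perm GolayPt)) p =
        ((tElt : Equiv.Perm GolayPt) ^ 2 * (hElt : Equiv.Perm GolayPt)) p) ∧
      (∀ p, ((gElt : Equiv.Perm GolayPt) ^ 5) p = projInv p) ∧
      ∀ p, ((gElt : Equiv.Perm GolayPt) ^ 6) p = cubeTwist p := by
    decide +kernel
  exact ⟨Equiv.ext key.1, Equiv.ext key.2.1, Equiv.ext key.2.2.1, Equiv.ext key.2.2.2⟩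

/-! ### Sign changes modulo the centre -/

/-- A basis word. -/
def bWord (i : Fin 11) : GolayPt → ZMod 2 := Mathieu.wordOf (twoBasis.getD i.val 0)

theorem bWord_mem (i : Fin 11) : bWord i ∈ golayCode := by
  refine Mathieu.wordOf_mem_of_inCode ?_
  revert i
  decide +kernel

theorem bWord_spec : (∀ i, bWord i none = 0) ∧ ∀ i j : Fin 11,
    bWord i (Mathieu.idx Mathieu.ptEnc (twoPiv.getD j.val 0)) = if i = j then 1 else 0 := by
  decide +kernel

/-- The word with given coordinates. -/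
def codeVec (v : Fin 11 → ZMod 2) : GolayPt → ZMod 2 := fun p => ∑ i, v i * bWord i p

theorem codeVec_mem (v : Fin 11 → ZMod 2) : codeVec v ∈ golayCode := by
  have : codeVec v = ∑ i, v i • bWord i := by
    funext p; simp [codeVec, Finset.sum_apply]
  rw [this]
  exact Submodule.sum_mem _ fun i _ => Submodule.smul_mem _ _ (bWord_mem i)

theorem codeVec_add (v w : Fin 11 → ZMod 2) : codeVec (v + w) = codeVec v + codeVec w := by
  funext p
  simp only [codeVec, Pi.add_apply, add_mul, Finset.sum_add_distrib]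

theorem signElt_inj {c d : GolayPt → ZMod 2} {hc : c ∈ golayCode} {hd : d ∈ golayCode}
    (h : signElt c hc = signElt d hd) : c = d := by
  have h' : monoElt (1, ⟨c, hc⟩) = monoElt (1, ⟨d, hd⟩) := by
    show signElt c hc * permHom 1 = signElt d hd * permHom 1
    rw [map_one, mul_one, mul_one, h]
  exact congrArg (fun x => (Subtype.val x.2 : GolayPt → ZMod 2)) (monoElt_injective h')

theorem signElt_zero : signElt 0 (zero_mem golayCode) = 1 := by
  have h := signElt_add (zero_mem golayCode) (zero_mem golayCode)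
  rw [signElt_congr (add_mem (zero_mem _) (zero_mem _)) (zero_mem golayCode) (add_zero 0)] at h
  exact left_eq_mul.1 h

theorem toCo1_sign_one : toCo1 (signElt 1 one_mem_code) = 1 := toCo1_negElt

/-- Coordinates on the sign changes. -/
noncomputable def signParam : Param Spor.Co1 2 11 where
  π v := toCo1 (signElt (codeVec v) (codeVec_mem v))
  map_add x y := by
    rw [← map_mul, ← signElt_add]
    exact congrArg toCo1 (signElt_congr _ _ (codeVec_add x y))
  inj v hv := by
    rcases center_eq ((QuotientGroup.eq_one_iff _).1 hv) with e | e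
    · rw [← signElt_zero] at e
      funext j
      have h := congrFun (signElt_inj e) (Mathieu.idx Mathieu.ptEnc (twoPiv.getD j.val 0))
      simpa only [codeVec, bWord_spec.2, mul_ite, mul_one, mul_zero, Finset.sum_ite_eq', Finset.mem_univ,
        if_true, Pi.zero_apply] using h
    · have h := congrFun (signElt_inj e) none
      simp [codeVec, bWord_spec.1] at h

theorem toCo1_perm_injective : Function.Injective fun s : M24 => toCo1 (permHom s) := by
  intro a b hab
  have h1 : permHom (a⁻¹ * b) ∈ Subgroup.center Co0 := by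
    rw [← QuotientGroup.eq_one_iff]
    show toCo1 (permHom (a⁻¹ * b)) = 1
    simp only at hab
    rw [map_mul, map_mul, map_inv, map_inv, hab, inv_mul_cancel]
  have key : ∀ (c : GolayPt → ZMod 2) (hc : c ∈ golayCode) (s : M24),
      permHom s = signElt c hc → s = 1 := by
    intro c hc s hs
    have h' : monoElt (s, 0) = monoElt (1, ⟨c, hc⟩) := by
      show signElt 0 (zero_mem golayCode) * permHom s = signElt c hc * permHom 1
      rw [signElt_zero, map_one, one_mul, mul_one, hs]
    exact congrArg Prod.fst (monoElt_injective h')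
  refine inv_mul_eq_one.1 ?_
  rcases center_eq h1 with e | e
  · exact key 0 (zero_mem _) _ (e.trans signElt_zero.symm)
  · exact key 1 one_mem_code _ e

theorem negElt_mul_self : negElt * negElt = (1 : Co0) := by
  refine eq_of_smul_eq_smul (α := leechLattice) fun v => ?_
  rw [mul_smul, negElt_smul, negElt_smul, neg_neg, one_smul]

/-- No permutation but the identity is a sign change modulo the centre. -/
theorem perm_eq_one_of_sign {s : M24} {v : Fin 11 → ZMod 2}
    (h : toCo1 (permHom s) = signParam.π v) : s = 1 := by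
  have h2 : permHom s * (signElt (codeVec v) (codeVec_mem v))⁻¹ ∈ Subgroup.center Co0 := by
    rw [← QuotientGroup.eq_one_iff]
    show toCo1 (permHom s * (signElt (codeVec v) (codeVec_mem v))⁻¹) = 1
    rw [map_mul, map_inv, h]
    exact mul_inv_cancel _
  rcases center_eq h2 with e | e
  · have h3 : monoElt (s, 0) = monoElt (1, ⟨codeVec v, codeVec_mem v⟩) := by
      show signElt 0 (zero_mem golayCode) * permHom s = signElt _ _ * permHom 1
      rw [signElt_zero, map_one, one_mul, mul_one, mul_inv_eq_one.1 e]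
    exact congrArg Prod.fst (monoElt_injective h3)
  · have h3 : monoElt (s, ⟨1, one_mem_code⟩) = monoElt (1, ⟨codeVec v, codeVec_mem v⟩) := by
      show negElt * permHom s = signElt _ _ * permHom 1
      rw [map_one, mul_one, mul_inv_eq_iff_eq_mul.1 e, ← mul_assoc, negElt_mul_self, one_mul]
    exact congrArg Prod.fst (monoElt_injective h3)

/-- The table describes the permutation on the basis words. -/
def permActOK (s : M24) (M : Matrix (Fin 11) (Fin 11) (ZMod 2)) (eps : List ℕ) : Prop :=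
  ∀ i p, bWord i p =
    (∑ j, M j i * bWord j ((s : Equiv.Perm GolayPt) p)) + (eps.getD i.val 0 : ZMod 2)

theorem acts_perm {s : M24} {M : Matrix (Fin 11) (Fin 11) (ZMod 2)} {eps : List ℕ}
    (h : permActOK s M eps) : signParam.Acts (toCo1 (permHom s)) M := by
  refine signParam.acts_of_basis fun i => ?_
  have hsingle : codeVec (Pi.single i 1) = bWord i := by
    funext p
    simp [codeVec, Pi.single_apply]
  show toCo1 (permHom s) * toCo1 (signElt _ _) = toCo1 (signElt _ _) * toCo1 (permHom s)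
  rw [signElt_congr _ (bWord_mem i) hsingle, ← mul_inv_eq_iff_eq_mul, ← map_inv, ← map_mul, ← map_mul,
    perm_conj_sign]
  by_cases he : (eps.getD i.val 0 : ZMod 2) = 0
  · refine congrArg toCo1 (signElt_congr _ _ (funext fun p => ?_))
    rw [Function.comp_apply, h i, he, add_zero, Equiv.apply_symm_apply]
    rfl
  · have he' : (eps.getD i.val 0 : ZMod 2) = 1 := (zmod2_cases _).resolve_left he
    have hc : bWord i ∘ (s : Equiv.Perm GolayPt).symm = codeVec (M.col i) + 1 := by
      funext p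
      rw [Function.comp_apply, h i, he', Equiv.apply_symm_apply]
      rfl
    rw [signElt_congr _ (add_mem (codeVec_mem _) one_mem_code) hc,
      signElt_add (codeVec_mem _) one_mem_code, map_mul,
      toCo1_sign_one, mul_one]

theorem permAct_checks :
    permActOK tElt (tblMat 2 11 twoU) twoUSign ∧ permActOK hElt (tblMat 2 11 twoH) twoHSign ∧
      permActOK gElt (tblMat 2 11 twoG) twoGSign := by
  unfold permActOK
  decide +kernel

/-- The certificate for the pairing. -/
def twoCert : PolyCert 2 11 where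
  M := tblMat 2 11 twoU
  d := 11
  P i := tblMat 2 11 (twoUPow.getD i [])
  f i := twoUCoeff.getD i 0
  S := tblMat 2 11 twoURev
  X := tblMat 2 11 twoUMul

theorem twoCert_ok : twoCert.OK ∧
    ∀ a b, ([twoCert].map fun C => (C.S * C.X) a b).sum =
      (1 : Matrix (Fin 11) (Fin 11) (ZMod 2)) a b := by
  have h : twoCert.P 0 = 1 ∧
      (∀ i : Fin 11, twoCert.P (i.val + 1) = twoCert.M * twoCert.P i.val) ∧
      (Matrix.of fun a b => ∑ i : Fin 12, (twoCert.f i.val : ZMod 2) * twoCert.P i.val a b) = 0 ∧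
      twoCert.S = (Matrix.of fun a b =>
        ∑ i : Fin 12, (twoCert.f i.val : ZMod 2) * twoCert.P (11 - i.val) a b) ∧
      twoCert.S * twoCert.X = 1 := by
    decide +kernel
  obtain ⟨h0, h1, h2, h3, h4⟩ := h
  exact ⟨⟨h0, h1, fun a b => congrFun (congrFun h2 a) b, fun a b => congrFun (congrFun h3 a) b⟩,
    fun a b => by simp [h4]⟩

theorem twoInv_ok :
    tblMat 2 11 twoUInv * (tblMat 2 11 twoU - 1) = 1 ∧
      (tblMat 2 11 twoU - 1) * tblMat 2 11 twoUInv = 1 := by
  decide +kernel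

theorem twoSplit_ok :
    (tblMat 2 11 twoH - 1) * tblMat 2 11 twoHSplit + (Matrix.of fun a b : Fin 11 =>
      if a.val = twoHOut then (twoHPart.getD b.val 0 : ZMod 2) else 0) = 1 := by
  decide +kernel

/-! ### The bound -/

theorem mem_normalizer_of_map_le {Γ : Type*} [Group Γ] [Finite Γ] (B : Subgroup Γ) {g : Γ}
    (h : ∀ b ∈ B, g * b * g⁻¹ ∈ B) : g ∈ normalizer (B : Set Γ) := by
  rw [mem_normalizer_iff]
  refine fun b => ⟨h b, fun hb => ?_⟩
  let f : B → B := fun m => ⟨g * m * g⁻¹, h _ m.2⟩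
  have hf : Function.Injective f := fun m m' e => Subtype.ext
    (mul_left_cancel (mul_right_cancel (congrArg Subtype.val e :
      g * (m : Γ) * g⁻¹ = g * (m' : Γ) * g⁻¹)))
  obtain ⟨m, hm⟩ := Finite.surjective_of_injective hf ⟨_, hb⟩
  have e : g * (m : Γ) * g⁻¹ = g * b * g⁻¹ := congrArg Subtype.val hm
  rw [← mul_left_cancel (mul_right_cancel e)]
  exact m.2

theorem eq_sec {Γ : Type*} [Group Γ] {σ : Γ →* Spor.Co1} (F : signParam.Fpf σ) {b : Γ}
    (hb : b ∈ F.B) {v : Fin 11 → ZMod 2} (h : σ b = signParam.π v) : b = F.sec v := by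
  obtain ⟨w, rfl⟩ := hb
  rw [F.map_sec] at h
  rw [signParam.injective h]

theorem local_two {Γ : Type} [Group Γ] [Finite Γ] (σ : Γ →* Spor.Co1)
    (hσ : Function.Surjective σ) (hz : σ.ker ≤ center Γ) :
    ∃ z0 ∈ σ.ker, z0 * z0 = 1 ∧
      ∃ H : Subgroup Γ, ¬ 2 ∣ H.index ∧ ⁅H, H⁆ ⊓ σ.ker ≤ zpowers z0 := by
  haveI : Finite Spor.Co1 := Nat.finite_of_card_ne_zero (by rw [card_co1]; norm_num)
  have cen : ∀ {z : Γ}, σ z = 1 → ∀ y, y * z = z * y := fun h y => mem_center_iff.1 (hz h) y
  have hu := acts_perm permAct_checks.1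
  have hh := acts_perm permAct_checks.2.1
  have hg := acts_perm permAct_checks.2.2
  have hcomm := fun X Y hX hY => signParam.commute_lifts hσ hz [twoCert]
    (fun C hC => by
      rw [List.mem_singleton] at hC
      subst hC
      exact ⟨twoCert_ok.1, _, hu⟩)
    twoCert_ok.2 (X := X) (Y := Y) hX hY
  obtain ⟨U, hU⟩ := hσ (toCo1 (permHom tElt))
  obtain ⟨h', hh'⟩ := hσ (toCo1 (permHom hElt))
  obtain ⟨g', hg'⟩ := hσ (toCo1 (permHom gElt))
  let F : signParam.Fpf σ := ⟨hσ, hz, hcomm, U, tblMat 2 11 twoU, hU ▸ hu, tblMat 2 11 twoUInv,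
    twoInv_ok.1, twoInv_ok.2⟩
  have hperm : ∀ (a b : M24), (a : Equiv.Perm GolayPt) = b →
      toCo1 (permHom a) = toCo1 (permHom b) := fun a b e => by rw [Subtype.ext e]
  have hrel1 : σ (g' * h') = σ (h' ^ 8 * g') := by
    rw [map_mul, map_mul, map_pow, hg', hh', ← map_mul, ← map_mul, ← map_pow, ← map_pow, ← map_mul,
      ← map_mul]
    exact hperm _ _ perm_identities.1
  have hhn : h' ∈ normalizer (F.B : Set Γ) := by
    refine F.mem_normalizer_of (by rw [hh']; exact hh.mem_normalizer) 2 (one_mem _) ?_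
    rw [show σ F.U = toCo1 (permHom tElt) from hU, hh', mul_one, ← map_mul, ← map_mul, ← map_pow,
      ← map_pow, ← map_mul, ← map_mul]
    exact hperm _ _ perm_identities.2.1
  -- the derivation
  let MG := tblMat 2 11 twoG
  let MH := tblMat 2 11 twoH
  have hgsec : ∀ v, σ (g' * F.sec v * g'⁻¹) = signParam.π (MG.mulVec v) := fun v => by
    rw [map_mul, map_mul, map_inv, hg', F.map_sec, hg v, mul_inv_cancel_right]
  have hdk : ∀ v, σ (g' * F.sec v * g'⁻¹ * (F.sec (MG.mulVec v))⁻¹) = 1 := fun v => by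
    rw [map_mul, hgsec, map_inv, F.map_sec, mul_inv_cancel]
  let d : (Fin 11 → ZMod 2) →+ Additive (center Γ) :=
    AddMonoidHom.mk' (fun v => Additive.ofMul
      (⟨g' * F.sec v * g'⁻¹ * (F.sec (MG.mulVec v))⁻¹, hz (hdk v)⟩ : center Γ)) (fun v w => by
        refine congrArg Additive.ofMul (Subtype.ext ?_)
        show _ = g' * F.sec v * g'⁻¹ * (F.sec (MG.mulVec v))⁻¹ *
          (g' * F.sec w * g'⁻¹ * (F.sec (MG.mulVec w))⁻¹)
        set a := g' * F.sec v * g'⁻¹ * (F.sec (MG.mulVec v))⁻¹ with ha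
        set b := g' * F.sec w * g'⁻¹ * (F.sec (MG.mulVec w))⁻¹ with hb
        have ha1 : σ a = 1 := hdk v
        have hb1 : σ b = 1 := hdk w
        have e1 : g' * F.sec (v + w) * g'⁻¹ =
            (a * F.sec (MG.mulVec v)) * (b * F.sec (MG.mulVec w)) := by
          rw [ha, hb, F.sec_add]; group
        show g' * F.sec (v + w) * g'⁻¹ * (F.sec (MG.mulVec (v + w)))⁻¹ = a * b
        rw [e1, Matrix.mulVec_add, F.sec_add, ← mul_assoc, mul_assoc a (F.sec _) b,
          cen hb1 (F.sec _)]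
        group)
  have hdval : ∀ v, ((d v).toMul : Γ) = g' * F.sec v * g'⁻¹ * (F.sec (MG.mulVec v))⁻¹ :=
    fun v => rfl
  have hdh : ∀ v, d (MH.mulVec v) = d v := by
    intro v
    have e1 : h' * F.sec v * h'⁻¹ = F.sec (MH.mulVec v) := by
      refine eq_sec F ((mem_normalizer_iff.1 hhn _).1 ⟨v, rfl⟩) ?_
      rw [map_mul, map_mul, map_inv, hh', F.map_sec, hh v, mul_inv_cancel_right]
    obtain ⟨z, hz1, hzz⟩ : ∃ z, σ z = 1 ∧ g' * h' = h' ^ 8 * g' * z :=
      ⟨(h' ^ 8 * g')⁻¹ * (g' * h'), by rw [map_mul, map_inv, hrel1, inv_mul_cancel],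
        by group⟩
    have e2 : g' * F.sec (MH.mulVec v) * g'⁻¹ = h' ^ 8 * (g' * F.sec v * g'⁻¹) * (h' ^ 8)⁻¹ := by
      calc g' * F.sec (MH.mulVec v) * g'⁻¹ = (g' * h') * F.sec v * (g' * h')⁻¹ := by
            rw [← e1]; group
        _ = h' ^ 8 * g' * (z * F.sec v * z⁻¹) * (h' ^ 8 * g')⁻¹ := by rw [hzz]; group
        _ = _ := by rw [← cen hz1 (F.sec v)]; group
    have hb : h' ^ 8 * F.sec (MG.mulVec v) * (h' ^ 8)⁻¹ ∈ F.B :=
      (mem_normalizer_iff.1 (pow_mem hhn 8) _).1 ⟨_, rfl⟩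
    set a := ((d (MH.mulVec v)).toMul : Γ) with ha
    set b := ((d v).toMul : Γ) with hb'
    have hak : σ a = 1 := by rw [ha, hdval]; exact hdk _
    have hbk : σ b = 1 := by rw [hb', hdval]; exact hdk _
    have e3 : a * F.sec (MG.mulVec (MH.mulVec v)) =
        b * (h' ^ 8 * F.sec (MG.mulVec v) * (h' ^ 8)⁻¹) := by
      have l : a * F.sec (MG.mulVec (MH.mulVec v)) = g' * F.sec (MH.mulVec v) * g'⁻¹ := by
        rw [ha, hdval]; group
      have r : g' * F.sec v * g'⁻¹ = b * F.sec (MG.mulVec v) := by rw [hb', hdval]; group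
      rw [l, e2, r, ← mul_assoc, cen hbk (h' ^ 8)]
      group
    have e4 : h' ^ 8 * F.sec (MG.mulVec v) * (h' ^ 8)⁻¹ = F.sec (MG.mulVec (MH.mulVec v)) := by
      refine eq_sec F hb ?_
      have := congrArg σ e3
      rw [map_mul, map_mul σ b, hak, hbk, one_mul, one_mul, F.map_sec] at this
      exact this.symm
    rw [e4] at e3
    exact Additive.toMul.injective (Subtype.ext (mul_right_cancel e3))
  set ev : Fin 11 → ZMod 2 := fun a => if a.val = twoHOut then 1 else 0 with hev
  have hd_all : ∀ v, ∃ n : ℕ, d v = n • d ev := by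
    intro v
    set c : ZMod 2 := ∑ b, (twoHPart.getD b.val 0 : ZMod 2) * v b with hc
    have hsplit : v = (MH.mulVec ((tblMat 2 11 twoHSplit).mulVec v) -
        (tblMat 2 11 twoHSplit).mulVec v) + c.val • ev := by
      set E0 : Matrix (Fin 11) (Fin 11) (ZMod 2) :=
        Matrix.of fun a b => if a.val = twoHOut then (twoHPart.getD b.val 0 : ZMod 2) else 0 with hE0
      have hsum : (MH - 1) * tblMat 2 11 twoHSplit + E0 = 1 := twoSplit_ok
      have hE : E0.mulVec v = c.val • ev := by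
        funext a
        simp only [hE0, hev, hc, Matrix.mulVec, dotProduct, Matrix.of_apply, Pi.smul_apply,
          nsmul_eq_mul, ZMod.natCast_zmod_val]
        split_ifs <;> simp
      conv_lhs => rw [← Matrix.one_mulVec v, ← hsum, Matrix.add_mulVec, hE, ← Matrix.mulVec_mulVec,
        Matrix.sub_mulVec, Matrix.one_mulVec]
    refine ⟨c.val, ?_⟩
    conv_lhs => rw [hsplit, map_add, map_sub, hdh, sub_self, zero_add, map_nsmul]
  set z0 : Γ := ((d ev).toMul : Γ) with hz0
  have hz0k : σ z0 = 1 := by rw [hz0, hdval]; exact hdk _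
  have hz02 : z0 * z0 = 1 := by
    have h2 : d ev + d ev = 0 := by
      rw [← map_add, show ev + ev = 0 from funext fun a => CharTwo.add_self_eq_zero _, map_zero]
    exact congrArg (fun x : Additive (center Γ) => ((x.toMul : center Γ) : Γ)) h2
  refine ⟨z0, hz0k, hz02, ?_⟩
  -- the group `B₀`
  set B0 := F.B ⊔ zpowers z0 with hB0
  have hzn : ∀ {z : Γ}, σ z = 1 → ∀ (K : Subgroup Γ), z ∈ normalizer (K : Set Γ) := fun {z} hz1 K => by
    rw [mem_normalizer_iff]
    intro b
    rw [← cen hz1 b, mul_inv_cancel_right]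
  have hB0mem : ∀ x ∈ B0, ∃ b ∈ F.B, ∃ w ∈ zpowers z0, x = b * w := by
    intro x hx
    rw [← SetLike.mem_coe, hB0, Subgroup.coe_mul_of_right_le_normalizer_left F.B (zpowers z0)
      ((zpowers_le).2 (hzn hz0k _))] at hx
    obtain ⟨b, hb, w, hw, rfl⟩ := hx
    exact ⟨b, hb, w, hw, rfl⟩
  have hwz : ∀ w ∈ zpowers z0, σ w = 1 := fun w hw => by
    obtain ⟨k, rfl⟩ := mem_zpowers_iff.1 hw
    rw [map_zpow, hz0k, one_zpow]
  have liftN : ∀ x : Γ, (∀ b ∈ F.B, x * b * x⁻¹ ∈ B0) → x ∈ normalizer (B0 : Set Γ) := by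
    intro x hx
    refine mem_normalizer_of_map_le _ fun y hy => ?_
    obtain ⟨b, hb, w, hw, rfl⟩ := hB0mem y hy
    rw [show x * (b * w) * x⁻¹ = x * b * x⁻¹ * (x * w * x⁻¹) by group, cen (hwz w hw) x,
      mul_inv_cancel_right]
    exact mul_mem (hx b hb) (Subgroup.mem_sup_right hw)
  have hUn : U ∈ normalizer (B0 : Set Γ) := liftN U fun b hb => Subgroup.mem_sup_left (F.conj_U hb)
  have hgn : g' ∈ normalizer (B0 : Set Γ) := liftN g' fun b hb => by
    obtain ⟨v, rfl⟩ := hb
    obtain ⟨n, hn⟩ := hd_all v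
    have e : g' * F.sec v * g'⁻¹ = ((d v).toMul : Γ) * F.sec (MG.mulVec v) := by
      rw [hdval]; group
    rw [e, hn]
    refine mul_mem (Subgroup.mem_sup_right ?_) (Subgroup.mem_sup_left ⟨_, rfl⟩)
    exact pow_mem (mem_zpowers z0) n
  -- the complement over `M₂₄`
  let ι : M24 →* Spor.Co1 := toCo1.comp permHom
  let Φ : Subgroup (M24 × Γ) := MonoidHom.eqLocus (ι.comp (MonoidHom.fst M24 Γ))
    (σ.comp (MonoidHom.snd M24 Γ))
  let pr : Φ →* M24 := (MonoidHom.fst M24 Γ).comp Φ.subtype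
  have hprs : Function.Surjective pr := fun s => by
    obtain ⟨x, hx⟩ := hσ (ι s)
    exact ⟨⟨(s, x), hx.symm⟩, rfl⟩
  have hprz : pr.ker ≤ center Φ := by
    rintro ⟨⟨s, x⟩, hsx⟩ hker
    obtain rfl : s = 1 := hker
    have hx1 : σ x = 1 := by
      have : ι 1 = σ x := hsx
      rw [← this, map_one]
    rw [mem_center_iff]
    rintro ⟨⟨t, y⟩, -⟩
    refine Subtype.ext (Prod.ext ?_ ?_)
    · show t * 1 = 1 * t
      rw [mul_one, one_mul]
    · exact cen hx1 y
  have htriv := ker_inf_commutator_eq_bot Cfsg.Agent.S2038.result pr hprs hprz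
  let K : Subgroup Γ := ((_root_.commutator Φ).map Φ.subtype).map (MonoidHom.snd M24 Γ)
  have hKmem : ∀ x ∈ K, ∃ s : M24, ι s = σ x ∧ (σ x = 1 → x = 1) := by
    rintro _ ⟨_, ⟨⟨⟨s, x⟩, hsx⟩, hc, rfl⟩, rfl⟩
    refine ⟨s, hsx, fun hx1 => ?_⟩
    have hs1 : s = 1 := toCo1_perm_injective (by
      show ι s = ι 1
      rw [map_one, show ι s = σ x from hsx]
      exact hx1)
    have : (⟨(s, x), hsx⟩ : Φ) ∈ pr.ker ⊓ _root_.commutator Φ := ⟨hs1, hc⟩
    rw [htriv] at this
    exact congrArg (fun q : Φ => (q : M24 × Γ).2) (mem_bot.1 this)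
  have hperfect : _root_.commutator M24 = ⊤ := by
    haveI := Mathieu.isSimple_M24
    refine Cfsg.Agent.S2038.commutator_eq_top_of_simple ?_
    rw [Mathieu.card_M24]
    norm_num
  have hKsurj : ∀ s : M24, ∃ x ∈ K, σ x = ι s := by
    intro s
    have hs : s ∈ (_root_.commutator Φ).map pr := by
      rw [_root_.commutator_def, Subgroup.map_commutator, ← MonoidHom.range_eq_map,
        MonoidHom.range_eq_top.2 hprs, ← _root_.commutator_def, hperfect]
      trivial
    obtain ⟨⟨⟨t, x⟩, htx⟩, hc, rfl⟩ := hs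
    exact ⟨x, ⟨(t, x), ⟨_, hc, rfl⟩, rfl⟩, (show ι t = σ x from htx).symm⟩
  have hKn : K ≤ normalizer (B0 : Set Γ) := by
    let S : Subgroup M24 := ((normalizer (B0 : Set Γ)).map σ).comap ι
    have hS : S = ⊤ := by
      refine top_le_iff.1 fun s _ => ?_
      have hgS : gElt ∈ S := ⟨g', hgn, hg'⟩
      have hle : Subgroup.closure {Equiv.optionCongr (Equiv.addRight (1 : ZMod 23)), projInv,
          cubeTwist} ≤ S.map M24.subtype := by
        rw [Subgroup.closure_le]
        rintro _ (rfl | rfl | rfl)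
        · exact ⟨tElt, ⟨U, hUn, hU⟩, rfl⟩
        · exact ⟨gElt ^ 5, pow_mem hgS 5, perm_identities.2.2.1⟩
        · exact ⟨gElt ^ 6, pow_mem hgS 6, perm_identities.2.2.2⟩
      have hs2 : (s : Equiv.Perm GolayPt) ∈ S.map M24.subtype :=
        hle (by rw [Mathieu.M24_eq_closure]; exact s.2)
      obtain ⟨t, ht, e⟩ := hs2
      rwa [← Subtype.ext (a1 := t) e]
    intro x hx
    obtain ⟨s, hs, -⟩ := hKmem x hx
    obtain ⟨y, hy, hys⟩ : ι s ∈ (normalizer (B0 : Set Γ)).map σ :=
      show s ∈ S by rw [hS]; trivial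
    have : x = y * (y⁻¹ * x) := by group
    rw [this]
    exact mul_mem hy (hzn (by rw [map_mul, map_inv, hys, hs, inv_mul_cancel]) _)
  set J := B0 ⊔ K with hJ
  have hJker : J ⊓ σ.ker ≤ zpowers z0 := by
    intro y hy'
    obtain ⟨hy, hy1⟩ : y ∈ J ∧ σ y = 1 := hy'
    rw [← SetLike.mem_coe] at hy
    rw [hJ, Subgroup.coe_mul_of_right_le_normalizer_left B0 K hKn] at hy
    obtain ⟨c, hc, x, hx, rfl⟩ := hy
    obtain ⟨b, hb, w, hw, rfl⟩ := hB0mem c hc
    simp only at hy1 ⊢
    obtain ⟨s, hs, hone⟩ := hKmem x hx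
    obtain ⟨v, hv⟩ := F.sigma_mem hb
    have h1 : signParam.π v * σ x = 1 := by
      rw [map_mul, map_mul, hwz w hw, mul_one, ← hv] at hy1
      exact hy1
    have hsx : σ x = 1 := by
      have hs1 : s = 1 := perm_eq_one_of_sign (v := -v) (by
        rw [signParam.pi_neg]
        exact hs.trans (eq_inv_of_mul_eq_one_right h1))
      rw [← hs, hs1, map_one]
    rw [hone hsx, mul_one]
    have hb1 : b = 1 := F.eq_one_of_mem hb (by
      rw [← hv]
      simpa [hsx] using h1)
    rwa [hb1, one_mul]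
  refine ⟨(J.map σ).comap σ, ?_, le_trans (inf_le_inf_right _ ?_) hJker⟩
  · refine not_dvd_index_comap σ hσ (k := 21) Nat.prime_two _ ?_ (by norm_num)
    let f : (Fin 11 → ZMod 2) × M24 → (J.map σ : Subgroup Spor.Co1) := fun q =>
      ⟨signParam.π q.1 * ι q.2, mul_mem
        ⟨F.sec q.1, Subgroup.mem_sup_left (Subgroup.mem_sup_left ⟨_, rfl⟩), F.map_sec _⟩
        (by
          obtain ⟨x, hx, hxs⟩ := hKsurj q.2
          exact ⟨x, Subgroup.mem_sup_right hx, hxs⟩)⟩
    have hf : Function.Bijective f := by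
      constructor
      · rintro ⟨v, s⟩ ⟨w, t⟩ e
        have e1 : signParam.π v * ι s = signParam.π w * ι t := congrArg Subtype.val e
        have e2 : signParam.π (-w + v) = ι (t * s⁻¹) := by
          rw [signParam.map_add, signParam.pi_neg, map_mul, map_inv,
            eq_mul_inv_iff_mul_eq, mul_assoc, e1, inv_mul_cancel_left]
        obtain rfl : t = s := mul_inv_eq_one.1 (perm_eq_one_of_sign e2.symm)
        rw [mul_right_cancel_iff] at e1
        exact Prod.ext (signParam.injective e1) rfl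
      · rintro ⟨_, y, hy, rfl⟩
        rw [SetLike.mem_coe, ← SetLike.mem_coe, hJ, Subgroup.coe_mul_of_right_le_normalizer_left B0 K hKn] at hy
        obtain ⟨c, hc, x, hx, rfl⟩ := hy
        obtain ⟨b, hb, w, hw, rfl⟩ := hB0mem c hc
        obtain ⟨v, hv⟩ := F.sigma_mem hb
        obtain ⟨s, hs, -⟩ := hKmem x hx
        refine ⟨(v, s), Subtype.ext ?_⟩
        show signParam.π v * ι s = σ (b * w * x)
        rw [map_mul, map_mul, hwz w hw, mul_one, hv, hs]
    rw [← Nat.card_congr (Equiv.ofBijective f hf), Nat.card_prod, Nat.card_fun, Nat.card_fin,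
      Nat.card_zmod, Mathieu.card_M24]
    norm_num
  · rw [Subgroup.commutator_le]
    intro a ha b hb
    obtain ⟨a', ha', ea⟩ := ha
    obtain ⟨b', hb', eb⟩ := hb
    rw [show ⁅a, b⁆ = ⁅a', b'⁆ from Param.comm_congr hz ea.symm eb.symm, commutatorElement_def]
    exact mul_mem (mul_mem (mul_mem ha' hb') (inv_mem ha')) (inv_mem hb')

end Cfsg.Agent.Schur.Co1Local
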